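import Cfsg.Agent.BX.Cov.K
set_option linter.all false
open scoped Cfsg.Agent.FastGrp

/-!
# A frame and a cover give the normaliser test (helper15)

* `glue` : a subgroup `Y` of `N(⟨y⟩)` which contains `y` and the words `dw`, normalises `⟨aw, y⟩` and contains none of the words
  `tw` lies in `⟨dw, y⟩`;
* `glue0` : the case `aw = []`;
* `test`, `test0` : the same for `X ⊓ N`, where `X` is a proper overgroup of a subgroup `K`.
-/

set_option autoImplicit false

namespace Cfsg.Agent.BX.Cov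

open Subgroup

theorem map_ev {H H' : Type*} [Monoid H] [Monoid H'] {r : ℕ} (f : H →* H') (gen : Fin r → H) (w : List (Fin r × ℕ)) :
    f (ev gen w) = ev (fun i => f (gen i)) w := by
  induction w with
  | nil => simp [ev]
  | cons q w ih =>
    simp only [ev, List.map_cons, List.prod_cons, map_mul, map_pow] at ih ⊢
    rw [ih]

theorem ev_nil {H : Type*} [Monoid H] {r : ℕ} (gen : Fin r → H) : ev gen [] = 1 := rfl

theorem ev_cons {H : Type*} [Monoid H] {r : ℕ} (gen : Fin r → H) (q : Fin r × ℕ) (w : List (Fin r × ℕ)) :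
    ev gen (q :: w) = gen q.1 ^ q.2 * ev gen w := by
  unfold ev
  rw [List.map_cons, List.prod_cons]

theorem ev_append {H : Type*} [Monoid H] {r : ℕ} (gen : Fin r → H) (v w : List (Fin r × ℕ)) :
    ev gen (v ++ w) = ev gen v * ev gen w := by
  unfold ev
  rw [List.map_append, List.prod_append]

theorem gp_nil {H : Type*} [Group H] {r : ℕ} (gen : Fin r → H) : gp gen [] = ⊥ := by
  unfold gp
  rw [closure_eq_bot_iff]
  rintro x ⟨w, hw, -⟩
  simp at hw

theorem gp_le {H : Type*} [Group H] {r : ℕ} {gen : Fin r → H} {l : List (List (Fin r × ℕ))} {K : Subgroup H}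
    (h : ∀ w ∈ l, ev gen w ∈ K) : gp gen l ≤ K := by
  unfold gp
  rw [closure_le]
  rintro x ⟨w, hw, rfl⟩
  exact h w hw

theorem lift_mem {G H : Type*} [Group G] [Group H] {N Z : Subgroup G} (hZ : Z ≤ N) {π : N →* H}
    (hk : ∀ g, π g = 1 ↔ (g : G) ∈ Z) {ι : Type*} (f : ι → N) (P : ι → Prop) (b : N) :
    (b : G) ∈ closure {x | ∃ i, P i ∧ x = (f i : G)} ⊔ Z ↔ π b ∈ closure {x | ∃ i, P i ∧ x = π (f i)} := by
  constructor
  · intro hb
    have h1 : closure {x | ∃ i, P i ∧ x = (f i : G)} ⊔ Z ≤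
        ((closure {x | ∃ i, P i ∧ x = π (f i)}).comap π).map N.subtype := by
      refine sup_le ?_ fun z hz => ⟨⟨z, hZ hz⟩, ?_, rfl⟩
      · rw [closure_le]
        rintro _ ⟨i, hi, rfl⟩
        exact ⟨f i, subset_closure ⟨i, hi, rfl⟩, rfl⟩
      · refine mem_comap.2 ?_
        rw [(hk ⟨z, hZ hz⟩).2 hz]
        exact one_mem _
    obtain ⟨c, hc, e⟩ := h1 hb
    rwa [show c = b from Subtype.ext e] at hc
  · intro hb
    have h1 : closure {x | ∃ i, P i ∧ x = π (f i)} ≤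
        ((closure {x | ∃ i, P i ∧ x = (f i : G)} ⊔ Z).subgroupOf N).map π := by
      rw [closure_le]
      rintro _ ⟨i, hi, rfl⟩
      exact ⟨f i, mem_sup_left (subset_closure ⟨i, hi, rfl⟩), rfl⟩
    obtain ⟨c, hc, e⟩ := h1 hb
    have h2 : ((b * c⁻¹ : N) : G) ∈ Z := (hk _).1 (by rw [map_mul, map_inv, e, mul_inv_cancel])
    have h3 := mul_mem (mem_sup_right h2) (show (c : G) ∈ closure {x | ∃ i, P i ∧ x = (f i : G)} ⊔ Z from hc)
    rwa [Subgroup.coe_mul, Subgroup.coe_inv, inv_mul_cancel_right] at h3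

variable {G : Type*} [Group G] [Finite G] {p m r : ℕ} {y : G} {gen : Fin r → G}
  {M : Fin r → Matrix (Fin m) (Fin m) (ZMod p)} {dw aw tw : List (List (Fin r × ℕ))}

/-- **The glue.** -/
theorem glue (hF : Frame1 y gen M) (hC : Cover M dw aw tw) {Y : Subgroup G}
    (hN : Y ≤ normalizer ((zpowers y : Subgroup G) : Set G)) (hy : y ∈ Y) (hd : ∀ w ∈ dw, ev gen w ∈ Y)
    (hA : Y ≤ normalizer ((gp gen aw ⊔ zpowers y : Subgroup G) : Set G)) (ht : ∀ w ∈ tw, ev gen w ∉ Y) :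
    Y ≤ gp gen dw ⊔ zpowers y := by
  obtain ⟨ρ, h, hk, hM, hg⟩ := hF
  obtain ⟨N, hNe⟩ : ∃ N, N = normalizer ((zpowers y : Subgroup G) : Set G) := ⟨_, rfl⟩
  subst hNe
  let π := ρ.toHomUnits.rangeRestrict
  have hπ : Function.Surjective π := MonoidHom.rangeRestrict_surjective _
  have : Finite ρ.toHomUnits.range := Finite.of_surjective π hπ
  let σ : ρ.toHomUnits.range →* Matrix (Fin m) (Fin m) (ZMod p) := (Units.coeHom _).comp ρ.toHomUnits.range.subtype
  have hσ : Function.Injective σ := fun a b e => Subtype.ext (Units.ext e)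
  have hk' : ∀ g, π g = 1 ↔ (g : G) ∈ zpowers y := fun g => by
    rw [← hk, ← hσ.eq_iff, map_one]
    rfl
  have hZ : zpowers y ≤ normalizer ((zpowers y : Subgroup G) : Set G) := le_normalizer
  let gN : Fin r → normalizer ((zpowers y : Subgroup G) : Set G) := fun i => ⟨gen i, h i⟩
  have e1 : ∀ w, ((ev gN w : normalizer ((zpowers y : Subgroup G) : Set G)) : G) = ev gen w := fun w =>
    map_ev (Subgroup.subtype _) gN w
  have e2 : ∀ w, π (ev gN w) = ev (fun i => π (gN i)) w := fun w => map_ev π gN w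
  have key : ∀ (l : List (List (Fin r × ℕ))) (b : normalizer ((zpowers y : Subgroup G) : Set G)),
      (b : G) ∈ gp gen l ⊔ zpowers y ↔ π b ∈ gp (fun i => π (gN i)) l := by
    intro l b
    have h1 := lift_mem hZ hk' (fun w => ev gN w) (fun w => w ∈ l) b
    simp only [e1, e2] at h1
    exact h1
  have hY : ∀ b : normalizer ((zpowers y : Subgroup G) : Set G), π b ∈ (Y.subgroupOf _).map π → (b : G) ∈ Y := by
    rintro b ⟨c, hc, e⟩
    have h2 : ((b * c⁻¹ : normalizer ((zpowers y : Subgroup G) : Set G)) : G) ∈ zpowers y :=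
      (hk' _).1 (by rw [map_mul, map_inv, e, mul_inv_cancel])
    have h3 := mul_mem (zpowers_le.2 hy h2) (show (c : G) ∈ Y from hc)
    rwa [Subgroup.coe_mul, Subgroup.coe_inv, inv_mul_cancel_right] at h3
  have h0 := hC ρ.toHomUnits.range (fun i => π (gN i)) σ hσ (fun i => hM i) ?_ ((Y.subgroupOf _).map π) ?_ ?_ ?_
  · intro a ha
    exact (key dw ⟨a, hN ha⟩).2 (h0 ⟨⟨a, hN ha⟩, ha, rfl⟩)
  · rw [eq_top_iff]
    intro x _
    obtain ⟨b, rfl⟩ := hπ x
    have h1 := lift_mem hZ hk' gN (fun _ => True) b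
    have h2 : {x | ∃ i, True ∧ x = (gN i : G)} = Set.range gen := by
      ext x
      exact ⟨fun ⟨i, _, e⟩ => ⟨i, e.symm⟩, fun ⟨i, e⟩ => ⟨i, trivial, e.symm⟩⟩
    have h3 : {x | ∃ i, True ∧ x = π (gN i)} = Set.range fun i => π (gN i) := by
      ext x
      exact ⟨fun ⟨i, _, e⟩ => ⟨i, e.symm⟩, fun ⟨i, e⟩ => ⟨i, trivial, e.symm⟩⟩
    rw [h2, h3] at h1
    exact h1.1 (hg b.2)
  · intro w hw
    exact ⟨ev gN w, show ((ev gN w : normalizer ((zpowers y : Subgroup G) : Set G)) : G) ∈ Y from e1 w ▸ hd w hw, e2 w⟩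
  · rintro _ ⟨a, ha, rfl⟩
    refine mem_normalizer_fintype fun n hn => ?_
    obtain ⟨b, rfl⟩ := hπ n
    rw [← map_inv, ← map_mul, ← map_mul]
    exact (key aw _).1 ((mem_normalizer_iff.1 (hA ha) b).1 ((key aw b).2 hn))
  · intro w hw h1
    rw [← e2] at h1
    exact ht w hw (e1 w ▸ hY _ h1)

/-- The glue without a test group. -/
theorem glue0 (hF : Frame1 y gen M) (hC : Cover M dw [] tw) {Y : Subgroup G}
    (hN : Y ≤ normalizer ((zpowers y : Subgroup G) : Set G)) (hy : y ∈ Y) (hd : ∀ w ∈ dw, ev gen w ∈ Y)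
    (ht : ∀ w ∈ tw, ev gen w ∉ Y) : Y ≤ gp gen dw ⊔ zpowers y :=
  glue hF hC hN hy hd (by rwa [gp_nil, bot_sup_eq]) ht

/-- **The normaliser test** for one overgroup `X`. -/
theorem test (hF : Frame1 y gen M) (hC : Cover M dw aw tw)
    (hA : normalizer ((gp gen aw ⊔ zpowers y : Subgroup G) : Set G) ≤ normalizer ((zpowers y : Subgroup G) : Set G))
    (hD : ∀ w ∈ dw, ev gen w ∈ normalizer ((gp gen aw ⊔ zpowers y : Subgroup G) : Set G))
    (hy' : y ∈ normalizer ((gp gen aw ⊔ zpowers y : Subgroup G) : Set G))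
    {X : Subgroup G} (hy : y ∈ X) (hd : ∀ w ∈ dw, ev gen w ∈ X) (ht : ∀ w ∈ tw, ev gen w ∉ X) :
    X ⊓ normalizer ((gp gen aw ⊔ zpowers y : Subgroup G) : Set G) ≤ gp gen dw ⊔ zpowers y :=
  glue hF hC (inf_le_right.trans hA) ⟨hy, hy'⟩ (fun w hw => ⟨hd w hw, hD w hw⟩) inf_le_right
    fun w hw h => ht w hw h.1

theorem Frame1.ev_mem (hF : Frame1 y gen M) (w : List (Fin r × ℕ)) :
    ev gen w ∈ normalizer ((zpowers y : Subgroup G) : Set G) := by
  obtain ⟨-, h, -⟩ := hF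
  induction w with
  | nil => exact one_mem _
  | cons q w ih => rw [ev_cons]; exact mul_mem (pow_mem (h _) _) ih

/-- **The normaliser test at `⟨y⟩`** for one overgroup `X`. -/
theorem test0 (hF : Frame1 y gen M) (hC : Cover M dw [] tw)
    {X : Subgroup G} (hy : y ∈ X) (hd : ∀ w ∈ dw, ev gen w ∈ X) (ht : ∀ w ∈ tw, ev gen w ∉ X) :
    X ⊓ normalizer ((zpowers y : Subgroup G) : Set G) ≤ gp gen dw ⊔ zpowers y :=
  glue0 hF hC inf_le_right ⟨hy, le_normalizer (mem_zpowers y)⟩ (fun w hw => ⟨hd w hw, hF.ev_mem w⟩)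
    fun w hw h => ht w hw h.1

end Cfsg.Agent.BX.Cov
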