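import Cfsg.Agent.Lib.PackMatMul
import Cfsg.Agent.Lib.PackMatOrbit
import Cfsg.Agent.BMx.CovAlg
import Cfsg.Agent.FastGrp
import Cfsg.Agent.Prune
set_option linter.all false
open scoped Cfsg.Agent.FastGrp

/-!
# Kernel checks for covers: trees, words, subgroups, cosets

A copy of `BMx/CovK` with light imports; `ev`, `gp`, `Frame1`, `Cover` have the same bodies as in `TAB/B/DG/K0_m3`.
-/

set_option autoImplicit false

namespace Cfsg.Agent.BX.Cov

open Subgroup

/-- The value of a word with exponents. -/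
def ev {H : Type*} [Monoid H] {r : ℕ} (gen : Fin r → H) (w : List (Fin r × ℕ)) : H :=
  (w.map fun q => gen q.1 ^ q.2).prod

/-- The group generated by a list of words. -/
def gp {H : Type*} [Group H] {r : ℕ} (gen : Fin r → H) (l : List (List (Fin r × ℕ))) : Subgroup H :=
  closure {x | ∃ w ∈ l, x = ev gen w}

/-- A frame at `y`, with the kernel equal to `⟨y⟩`. -/
def Frame1 {G : Type*} [Group G] {p m r : ℕ} (y : G) (gen : Fin r → G)
    (M : Fin r → Matrix (Fin m) (Fin m) (ZMod p)) : Prop :=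
  ∃ (ρ : ↥(normalizer ((zpowers y : Subgroup G) : Set G)) →* Matrix (Fin m) (Fin m) (ZMod p))
    (h : ∀ i, gen i ∈ normalizer ((zpowers y : Subgroup G) : Set G)),
    (∀ g, ρ g = 1 ↔ (g : G) ∈ zpowers y) ∧ (∀ i, ρ ⟨gen i, h i⟩ = M i) ∧
      normalizer ((zpowers y : Subgroup G) : Set G) ≤ closure (Set.range gen) ⊔ zpowers y

/-- The covering of the overgroups (no bound on the order is needed). -/
def Cover {p m r : ℕ} (M : Fin r → Matrix (Fin m) (Fin m) (ZMod p)) (dw aw tw : List (List (Fin r × ℕ))) : Prop :=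
  ∀ (H : Type) [Group H] [Finite H] (gen : Fin r → H) (ρ : H →* Matrix (Fin m) (Fin m) (ZMod p)),
    Function.Injective ρ → (∀ i, ρ (gen i) = M i) → closure (Set.range gen) = ⊤ →
    ∀ Y : Subgroup H, (∀ w ∈ dw, ev gen w ∈ Y) → Y ≤ normalizer ((gp gen aw : Subgroup H) : Set H) →
      (∀ w ∈ tw, ev gen w ∉ Y) → Y ≤ gp gen dw

open Cfsg.Agent.BMx.Cov
open Cfsg.Agent.Lib.PackMat Cfsg.Agent.Lib.PackMatMul
open Cfsg.Agent.Lib.PackMatGroup (evG evG_nil evG_cons evG_mem)
open Cfsg.Agent.Lib.PackMatOrbit (getO getW memB memB_spec)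

theorem cond_true_of {b c : Bool} (h : (bif b then c else false) = true) : b = true ∧ c = true := by
  cases b <;> simp_all

theorem cond_or {b c : Bool} (h : (bif b then true else c) = true) : b = true ∨ c = true := by
  cases b <;> simp_all

theorem cond_imp {b c : Bool} (h : (bif b then c else true) = true) (hb : b = true) : c = true := by
  cases b <;> simp_all

theorem cond_not {b : Bool} (h : (bif b then false else true) = true) : ¬ b = true := by
  cases b <;> simp_all

theorem fe {α : Type} (e : ℕ) (k : ℕ → α) : force e k = k e := (force_eq e k).trans rfl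

theorem we {α : Type} (C : Cfg) (k : (ℕ → ℕ → ℕ) → α) : withM C k = k (mulM C) := (withM_eq C k).trans rfl

/-! ### lists and trees -/

noncomputable def allL {α : Type} (l : List α) (P : α → Bool) : Bool :=
  List.rec true (fun a _ ih => bif P a then ih else false) l

noncomputable def anyL {α : Type} (l : List α) (P : α → Bool) : Bool :=
  List.rec false (fun a _ ih => bif P a then true else ih) l

theorem allL_spec {α : Type} {l : List α} {P : α → Bool} (h : allL l P = true) : ∀ a ∈ l, P a = true := by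
  induction l with
  | nil => intro a ha; simp at ha
  | cons b l ih =>
    have h' := cond_true_of (show (bif P b then allL l P else false) = true from h)
    intro a ha
    rcases List.mem_cons.1 ha with rfl | ha
    · exact h'.1
    · exact ih h'.2 a ha

theorem anyL_spec {α : Type} {l : List α} {P : α → Bool} (h : anyL l P = true) : ∃ a ∈ l, P a = true := by
  induction l with
  | nil => exact absurd h (by show ¬ false = true; decide)
  | cons b l ih =>
    rcases cond_or (show (bif P b then true else anyL l P) = true from h) with h' | h'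
    · exact ⟨b, List.mem_cons_self, h'⟩
    · obtain ⟨a, ha, h2⟩ := ih h'
      exact ⟨a, List.mem_cons_of_mem _ ha, h2⟩

/-- search trees: a key and three more fields -/
inductive Tr : Type
  | nil : Tr
  | node (l : Tr) (k a b c : ℕ) (r : Tr) : Tr

/-- the records of a tree -/
inductive Tr.Mem (x a b c : ℕ) : Tr → Prop
  | here (l r : Tr) : Tr.Mem x a b c (.node l x a b c r)
  | left {l r : Tr} {k a' b' c' : ℕ} : Tr.Mem x a b c l → Tr.Mem x a b c (.node l k a' b' c' r)
  | right {l r : Tr} {k a' b' c' : ℕ} : Tr.Mem x a b c r → Tr.Mem x a b c (.node l k a' b' c' r)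

noncomputable def Tr.find (t : Tr) (x : ℕ) (yes : ℕ → ℕ → ℕ → Bool) : Bool :=
  Tr.rec (motive := fun _ => Bool) false
    (fun _ k a b c _ ihl ihr => bif Nat.ble k x then bif Nat.beq k x then yes a b c else ihr else ihl) t

noncomputable def Tr.all (t : Tr) (P : ℕ → ℕ → ℕ → ℕ → Bool) : Bool :=
  Tr.rec (motive := fun _ => Bool) true
    (fun _ k a b c _ ihl ihr => bif P k a b c then bif ihl then ihr else false else false) t

noncomputable def Tr.has (t : Tr) (x : ℕ) : Bool :=
  Tr.rec (motive := fun _ => Bool) false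
    (fun _ k _ _ _ _ ihl ihr => bif Nat.beq k x then true else bif ihl then true else ihr) t

theorem Tr.find_sound {t : Tr} {x : ℕ} {yes : ℕ → ℕ → ℕ → Bool} (h : t.find x yes = true) :
    ∃ a b c, Tr.Mem x a b c t ∧ yes a b c = true := by
  induction t with
  | nil => exact absurd h (by show ¬ false = true; decide)
  | node l k a b c r ihl ihr =>
    have h' : (bif Nat.ble k x then bif Nat.beq k x then yes a b c else r.find x yes else l.find x yes) = true := h
    rcases h1 : Nat.ble k x with _ | _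
    · rw [h1, cond_false] at h'
      obtain ⟨a', b', c', h2, h3⟩ := ihl h'
      exact ⟨a', b', c', .left h2, h3⟩
    · rw [h1, cond_true] at h'
      rcases h2 : Nat.beq k x with _ | _
      · rw [h2, cond_false] at h'
        obtain ⟨a', b', c', h3, h4⟩ := ihr h'
        exact ⟨a', b', c', .right h3, h4⟩
      · rw [h2, cond_true] at h'
        rw [← Nat.eq_of_beq_eq_true h2]
        exact ⟨a, b, c, .here l r, h'⟩

/-- all records satisfy `P` -/
def Tr.All (t : Tr) (P : ℕ → ℕ → ℕ → ℕ → Bool) : Prop := ∀ k a b c, Tr.Mem k a b c t → P k a b c = true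

theorem Tr.all_sound {t : Tr} {P : ℕ → ℕ → ℕ → ℕ → Bool} (h : t.all P = true) : t.All P := by
  induction t with
  | nil => intro k a b c hm; cases hm
  | node l k a b c r ihl ihr =>
    have h1 := cond_true_of (show (bif P k a b c then bif l.all P then r.all P else false else false) = true from h)
    have h2 := cond_true_of h1.2
    intro k' a' b' c' hm
    cases hm with
    | here => exact h1.1
    | left hm => exact ihl h2.1 _ _ _ _ hm
    | right hm => exact ihr h2.2 _ _ _ _ hm

theorem Tr.All.node {l r : Tr} {k a b c : ℕ} {P : ℕ → ℕ → ℕ → ℕ → Bool} (hl : l.All P)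
    (hk : (Tr.node .nil k a b c .nil).All P) (hr : r.All P) : (Tr.node l k a b c r).All P := by
  intro k' a' b' c' hm
  cases hm with
  | here => exact hk _ _ _ _ (.here _ _)
  | left hm => exact hl _ _ _ _ hm
  | right hm => exact hr _ _ _ _ hm

theorem Tr.has_of_mem {t : Tr} {x a b c : ℕ} (h : Tr.Mem x a b c t) : t.has x = true := by
  induction h with
  | here l r =>
    show (bif Nat.beq x x then true else bif l.has x then true else r.has x) = true
    rw [Nat.beq_refl, cond_true]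
  | @left l r k a' b' c' _ ih =>
    show (bif Nat.beq k x then true else bif l.has x then true else r.has x) = true
    rw [ih, cond_true, Bool.cond_self]
  | @right l r k a' b' c' _ ih =>
    show (bif Nat.beq k x then true else bif l.has x then true else r.has x) = true
    rw [ih, Bool.cond_self, Bool.cond_self]

theorem Tr.mem_of_has {t : Tr} {x : ℕ} (h : t.has x = true) : ∃ a b c, Tr.Mem x a b c t := by
  induction t with
  | nil => exact absurd h (by show ¬ false = true; decide)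
  | node l k a b c r ihl ihr =>
    rcases cond_or (show (bif Nat.beq k x then true else bif l.has x then true else r.has x) = true from h) with h1 | h1
    · rw [← Nat.eq_of_beq_eq_true h1]
      exact ⟨a, b, c, .here l r⟩
    · rcases cond_or h1 with h2 | h2
      · obtain ⟨a', b', c', h3⟩ := ihl h2
        exact ⟨a', b', c', .left h3⟩
      · obtain ⟨a', b', c', h3⟩ := ihr h2
        exact ⟨a', b', c', .right h3⟩

/-! ### words -/

noncomputable def evA (f : ℕ → ℕ → ℕ) (one : ℕ) (L : List ℕ) (w : List ℕ) : ℕ → ℕ :=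
  List.rec (motive := fun _ => ℕ → ℕ) (fun acc => acc)
    (fun i _ ih acc => force (getO one L i) fun x => force (f acc x) ih) w

noncomputable def evW (f : ℕ → ℕ → ℕ) (one : ℕ) (L : List ℕ) (w : List ℕ) : ℕ :=
  List.rec (motive := fun _ => ℕ) one (fun i w _ => force (getO one L i) (evA f one L w)) w

noncomputable def powN (f : ℕ → ℕ → ℕ) (one A n : ℕ) : ℕ :=
  Nat.rec (motive := fun _ => ℕ) one (fun _ ih => force ih fun x => f x A) n

noncomputable def evE {r : ℕ} (f : ℕ → ℕ → ℕ) (one : ℕ) (G : List ℕ) (w : List (Fin r × ℕ)) : ℕ :=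
  List.rec (motive := fun _ => ℕ) one
    (fun q _ ih => force (getO one G q.1.val) fun x => force (powN f one x q.2) fun y => force ih fun z => f y z) w

theorem evA_cons (f : ℕ → ℕ → ℕ) (one : ℕ) (L : List ℕ) (i : ℕ) (w : List ℕ) (acc : ℕ) :
    evA f one L (i :: w) acc = evA f one L w (f acc (getO one L i)) := rfl

theorem evW_cons (f : ℕ → ℕ → ℕ) (one : ℕ) (L : List ℕ) (i : ℕ) (w : List ℕ) :
    evW f one L (i :: w) = evA f one L w (getO one L i) := rfl

theorem powN_succ (f : ℕ → ℕ → ℕ) (one A n : ℕ) : powN f one A (n + 1) = f (powN f one A n) A := rfl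

theorem evE_cons {r : ℕ} (f : ℕ → ℕ → ℕ) (one : ℕ) (G : List ℕ) (q : Fin r × ℕ) (w : List (Fin r × ℕ)) :
    evE f one G (q :: w) = f (powN f one (getO one G q.1.val) q.2) (evE f one G w) := rfl

variable {C : Cfg} {H : Type*} [Group H]

/-- matrices -/
abbrev Mt (C : Cfg) : Type := Matrix (Fin C.n) (Fin C.n) (ZMod C.p)

/-- `A` is the code of `σ g` -/
def Cd (σ : H →* Mt C) (g : H) (A : ℕ) : Prop := RedG C A ∧ σ g = mat C A

/-- a good configuration -/
structure OK (C : Cfg) : Prop where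
  good : Good C
  hp : 1 < C.p

variable {σ : H →* Mt C}

theorem red_one (hC : OK C) : RedG C (oneM C) := (codesR_one hC.good hC.hp).1

theorem mat_one (hC : OK C) : mat C (oneM C) = 1 := (codesR_one hC.good hC.hp).2.symm

theorem red_mul (hC : OK C) {A B : ℕ} (hA : RedG C A) (hB : RedG C B) : RedG C (mulM C A B) := (mulM_spec hC.good hA hB).1

theorem mat_mul (hC : OK C) {A B : ℕ} (hA : RedG C A) (hB : RedG C B) : mat C (mulM C A B) = mat C A * mat C B :=
  (mulM_spec hC.good hA hB).2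

theorem Cd.one (hC : OK C) : Cd σ 1 (oneM C) := ⟨red_one hC, by rw [map_one, mat_one hC]⟩

theorem Cd.mul (hC : OK C) {g h : H} {A B : ℕ} (hg : Cd σ g A) (hh : Cd σ h B) : Cd σ (g * h) (mulM C A B) :=
  ⟨red_mul hC hg.1 hh.1, by rw [mat_mul hC hg.1 hh.1, map_mul, hg.2, hh.2]⟩

theorem Cd.eq {g h : H} {A : ℕ} (hg : Cd σ g A) (hh : Cd σ h A) : σ g = σ h := hg.2.trans hh.2.symm

theorem Cd.code_eq {g h : H} {A B : ℕ} (hg : Cd σ g A) (hh : Cd σ h B) (e : σ g = σ h) : A = B :=
  redG_inj hg.1 hh.1 (by rw [← hg.2, ← hh.2, e])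

theorem Cd.congr {g h : H} {A : ℕ} (hg : Cd σ g A) (e : σ h = σ g) : Cd σ h A := ⟨hg.1, e.trans hg.2⟩

theorem Cd.inv (hC : OK C) {g : H} {A B : ℕ} (hg : Cd σ g A) (hB : RedG C B) (h : mulM C A B = oneM C) : Cd σ g⁻¹ B :=
  ⟨hB, map_inv_eq σ (by rw [hg.2, ← mat_mul hC hg.1 hB, h, mat_one hC])⟩

theorem Cd.get (hC : OK C) {LG : List H} {L : List ℕ} (h : List.Forall₂ (Cd σ) LG L) (i : ℕ) :
    Cd σ (LG.getD i 1) (getO (oneM C) L i) := by
  induction h generalizing i with
  | nil => exact Cd.one hC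
  | cons h1 _ ih =>
    rcases i with _ | i
    · exact h1
    · exact ih i

theorem Cd.evA (hC : OK C) {LG : List H} {L : List ℕ} (h : List.Forall₂ (Cd σ) LG L) (w : List ℕ) :
    ∀ {g : H} {acc : ℕ}, Cd σ g acc → Cd σ (g * evG LG w) (evA (mulM C) (oneM C) L w acc) := by
  induction w with
  | nil => intro g acc hg; rw [evG_nil, mul_one]; exact hg
  | cons i w ih =>
    intro g acc hg
    rw [evG_cons, ← mul_assoc, evA_cons]
    exact ih (hg.mul hC (Cd.get hC h i))

theorem Cd.evW (hC : OK C) {LG : List H} {L : List ℕ} (h : List.Forall₂ (Cd σ) LG L) (w : List ℕ) :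
    Cd σ (evG LG w) (evW (mulM C) (oneM C) L w) := by
  rcases w with _ | ⟨i, w⟩
  · exact Cd.one hC
  · rw [evW_cons, evG_cons]
    exact Cd.evA hC h w (Cd.get hC h i)

theorem Cd.pow (hC : OK C) {g : H} {A : ℕ} (h : Cd σ g A) (n : ℕ) : Cd σ (g ^ n) (powN (mulM C) (oneM C) A n) := by
  induction n with
  | zero => rw [pow_zero]; exact Cd.one hC
  | succ n ih => rw [pow_succ, powN_succ]; exact ih.mul hC h

theorem Cd.evE (hC : OK C) {r : ℕ} {gen : Fin r → H} {G : List ℕ} (h : ∀ i, Cd σ (gen i) (getO (oneM C) G i.val))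
    (w : List (Fin r × ℕ)) : Cd σ (ev gen w) (evE (mulM C) (oneM C) G w) := by
  induction w with
  | nil => exact Cd.one hC
  | cons q w ih =>
    have e : ev gen (q :: w) = gen q.1 ^ q.2 * ev gen w := by
      unfold ev
      rw [List.map_cons, List.prod_cons]
    rw [e, evE_cons]
    exact ((h q.1).pow hC q.2).mul hC ih

/-- the codes of a list of words -/
noncomputable def codesB {r : ℕ} (f : ℕ → ℕ → ℕ) (one : ℕ) (G : List ℕ) (ws : List (List (Fin r × ℕ))) : List ℕ → Bool :=
  List.rec (motive := fun _ => List ℕ → Bool) (fun L => List.rec true (fun _ _ _ => false) L)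
    (fun w _ ih L => List.rec false (fun a L _ => bif Nat.beq (evE f one G w) a then ih L else false) L) ws

theorem codesB_sound (hC : OK C) {r : ℕ} {gen : Fin r → H} {G : List ℕ} (h : ∀ i, Cd σ (gen i) (getO (oneM C) G i.val))
    {ws : List (List (Fin r × ℕ))} : ∀ {L : List ℕ}, codesB (mulM C) (oneM C) G ws L = true →
      List.Forall₂ (Cd σ) (ws.map (ev gen)) L := by
  induction ws with
  | nil =>
    intro L hL
    rcases L with _ | ⟨a, L⟩
    · exact List.Forall₂.nil
    · exact absurd hL (by show ¬ false = true; decide)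
  | cons w ws ih =>
    intro L hL
    rcases L with _ | ⟨a, L⟩
    · exact absurd hL (by show ¬ false = true; decide)
    · have h1 := cond_true_of (show (bif Nat.beq (evE (mulM C) (oneM C) G w) a then
        codesB (mulM C) (oneM C) G ws L else false) = true from hL)
      refine List.Forall₂.cons ?_ (ih h1.2)
      rw [← Nat.eq_of_beq_eq_true h1.1]
      exact Cd.evE hC h w

theorem forall₂_left {LG : List H} {L : List ℕ} (h : List.Forall₂ (Cd σ) LG L) {g : H} (hg : g ∈ LG) : ∃ A ∈ L, Cd σ g A := by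
  induction h with
  | nil => simp at hg
  | cons h1 _ ih =>
    rcases List.mem_cons.1 hg with rfl | hg
    · exact ⟨_, List.mem_cons_self, h1⟩
    · obtain ⟨A, hA, h2⟩ := ih hg
      exact ⟨A, List.mem_cons_of_mem _ hA, h2⟩

theorem forall₂_right {LG : List H} {L : List ℕ} (h : List.Forall₂ (Cd σ) LG L) {A : ℕ} (hA : A ∈ L) : ∃ g ∈ LG, Cd σ g A := by
  induction h with
  | nil => simp at hA
  | cons h1 _ ih =>
    rcases List.mem_cons.1 hA with rfl | hA
    · exact ⟨_, List.mem_cons_self, h1⟩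
    · obtain ⟨g, hg, h2⟩ := ih hA
      exact ⟨g, List.mem_cons_of_mem _ hg, h2⟩

/-! ### subgroups as trees -/

noncomputable def grpL (f : ℕ → ℕ → ℕ) (t : Tr) (k r1 : ℕ) (lam : List ℕ) : Bool → Bool :=
  List.rec (motive := fun _ => Bool → Bool) (fun fl => fl)
    (fun l _ ih fl => force (f k l) fun z => t.find z fun r' _ _ => ih (bif fl then true else Nat.blt r' r1)) lam

/-- the record `k` of depth `r1`: all products with the generators are in the tree, one of them has smaller depth -/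
noncomputable def grpN (f : ℕ → ℕ → ℕ) (one : ℕ) (red : ℕ → Bool) (lam : List ℕ) (t : Tr) (k r1 : ℕ) : Bool :=
  bif red k then grpL f t k r1 lam (Nat.beq k one) else false

theorem grpL_spec {f : ℕ → ℕ → ℕ} {t : Tr} {k r1 : ℕ} {lam : List ℕ} : ∀ {fl : Bool}, grpL f t k r1 lam fl = true →
    (∀ l ∈ lam, ∃ a b c, Tr.Mem (f k l) a b c t) ∧ (fl = true ∨ ∃ l ∈ lam, ∃ a b c, Tr.Mem (f k l) a b c t ∧ a < r1) := by
  induction lam with
  | nil => exact fun h => ⟨fun l hl => by simp at hl, Or.inl h⟩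
  | cons l lam ih =>
    intro fl h
    obtain ⟨a, b, c, h1, h2⟩ := Tr.find_sound (show t.find (f k l) (fun r' _ _ =>
      grpL f t k r1 lam (bif fl then true else Nat.blt r' r1)) = true from h)
    obtain ⟨h3, h4⟩ := ih h2
    refine ⟨fun l' hl' => ?_, ?_⟩
    · rcases List.mem_cons.1 hl' with rfl | hl'
      · exact ⟨a, b, c, h1⟩
      · exact h3 l' hl'
    · rcases h4 with h4 | ⟨l', hl', h5⟩
      · rcases cond_or h4 with h5 | h5
        · exact Or.inl h5
        · exact Or.inr ⟨l, List.mem_cons_self, a, b, c, h1, by rwa [Nat.blt_eq] at h5⟩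
      · exact Or.inr ⟨l', List.mem_cons_of_mem _ hl', h5⟩

/-- the keys of `t` are the codes of the image of `K` -/
structure Enum (σ : H →* Mt C) (K : Subgroup H) (t : Tr) : Prop where
  sub : ∀ {k a b c}, Tr.Mem k a b c t → ∃ g ∈ K, Cd σ g k
  sup : ∀ g ∈ K, ∃ k a b c, Tr.Mem k a b c t ∧ Cd σ g k

theorem Enum.has {K : Subgroup H} {t : Tr} (h : Enum σ K t) {g : H} {A : ℕ} (hg : Cd σ g A) :
    t.has A = true ↔ g ∈ sat σ K := by
  constructor
  · intro h1
    obtain ⟨a, b, c, h2⟩ := Tr.mem_of_has h1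
    obtain ⟨g', hg', h3⟩ := h.sub h2
    exact ⟨g', hg', hg.eq h3⟩
  · rintro ⟨g', hg', h1⟩
    obtain ⟨k, a, b, c, h2, h3⟩ := h.sup g' hg'
    rw [hg.code_eq h3 h1]
    exact Tr.has_of_mem h2

theorem grp_sound [Finite H] (hC : OK C) {LG : List H} {lam : List ℕ} (hl : List.Forall₂ (Cd σ) LG lam) {t : Tr}
    (h1 : t.find (oneM C) (fun _ _ _ => true) = true)
    (h : ∀ k a b c, Tr.Mem k a b c t → grpN (mulM C) (oneM C) (redC C) lam t k a = true) :
    Enum σ (closure {x | x ∈ LG}) t := by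
  have h2 : ∀ {k a b c}, Tr.Mem k a b c t → RedG C k ∧ (∀ l ∈ lam, ∃ a b c, Tr.Mem (mulM C k l) a b c t) ∧
      (k = oneM C ∨ ∃ l ∈ lam, ∃ a' b c, Tr.Mem (mulM C k l) a' b c t ∧ a' < a) := by
    intro k a b c hm
    obtain ⟨h3, h4⟩ := cond_true_of (h k a b c hm)
    obtain ⟨h5, h6⟩ := grpL_spec h4
    exact ⟨redG_of_check hC.good h3, h5, h6.imp_left Nat.eq_of_beq_eq_true⟩
  constructor
  · intro k a
    induction a using Nat.strong_induction_on generalizing k with
    | _ a ih =>
      intro b c hm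
      obtain ⟨h3, -, h4 | ⟨l, hl', a', b', c', h5, h6⟩⟩ := h2 hm
      · exact ⟨1, one_mem _, h4 ▸ Cd.one hC⟩
      · obtain ⟨g, hg, h7⟩ := ih a' h6 h5
        obtain ⟨x, hx, h8⟩ := forall₂_right hl hl'
        refine ⟨g * x⁻¹, mul_mem hg (inv_mem (subset_closure hx)), h3, ?_⟩
        rw [map_mul, h7.2, mat_mul hC h3 h8.1, ← h8.2, mul_assoc, ← map_mul, mul_inv_cancel, map_one, mul_one]
  · refine closure_ind ?_ ?_
    · obtain ⟨a, b, c, h3, -⟩ := Tr.find_sound h1
      exact ⟨_, a, b, c, h3, Cd.one hC⟩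
    · rintro g ⟨k, a, b, c, h3, h4⟩ s hs
      obtain ⟨l, hl', h5⟩ := forall₂_left hl hs
      obtain ⟨a', b', c', h6⟩ := (h2 h3).2.1 l hl'
      exact ⟨_, a', b', c', h6, h4.mul hC h5⟩

/-- the whole check for a small tree -/
noncomputable def grpC (f : ℕ → ℕ → ℕ) (one : ℕ) (red : ℕ → Bool) (lam : List ℕ) (t : Tr) : Bool :=
  bif t.find one (fun _ _ _ => true) then t.all fun k a _ _ => grpN f one red lam t k a else false

theorem grpC_sound [Finite H] (hC : OK C) {LG : List H} {lam : List ℕ} (hl : List.Forall₂ (Cd σ) LG lam) {t : Tr}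
    (h : grpC (mulM C) (oneM C) (redC C) lam t = true) : Enum σ (closure {x | x ∈ LG}) t :=
  grp_sound hC hl (cond_true_of h).1 (Tr.all_sound (cond_true_of h).2)

/-! ### descent to the targets -/

noncomputable def desN (f : ℕ → ℕ → ℕ) (one : ℕ) (ws : List (List ℕ)) (db : List ℕ) (Db : Tr) (tb : List ℕ) (t : Tr)
    (k r2 h : ℕ) : Bool :=
  bif Nat.beq r2 0 then Db.has k else bif Nat.beq r2 1 then memB k tb else
    force (evW f one (k :: db) (getW ws h)) fun z => t.find z fun _ r' _ => bif Nat.ble 1 r' then Nat.blt r' r2 else false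

theorem des_sound (hC : OK C) {ws : List (List ℕ)} {DG : List H} {db : List ℕ} (hd : List.Forall₂ (Cd σ) DG db) {Db : Tr}
    {tb : List ℕ} {t : Tr} (h : ∀ k a b c, Tr.Mem k a b c t → desN (mulM C) (oneM C) ws db Db tb t k b c = true)
    {Y : Subgroup H} (hY : ∀ d ∈ DG, d ∈ Y) {k a b c : ℕ} (hm : Tr.Mem k a b c t) {y : H} (hy : y ∈ Y) (hk : Cd σ y k) :
    Db.has k = true ∨ ∃ k' ∈ tb, ∃ y' ∈ Y, Cd σ y' k' := by
  have key : ∀ b, 1 ≤ b → ∀ {k a c : ℕ}, Tr.Mem k a b c t → ∀ {y : H}, y ∈ Y → Cd σ y k → ∃ k' ∈ tb, ∃ y' ∈ Y, Cd σ y' k' := by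
    intro b
    induction b using Nat.strong_induction_on with
    | _ b ih =>
      intro hb k a c hm y hy hk
      have h1 := h k a b c hm
      unfold desN at h1
      have h2 : Nat.beq b 0 = false := by
        rcases h3 : Nat.beq b 0 with _ | _
        · rfl
        · have := Nat.eq_of_beq_eq_true h3
          omega
      rw [h2, cond_false] at h1
      rcases h3 : Nat.beq b 1 with _ | _
      · rw [h3, cond_false, force_eq] at h1
        obtain ⟨a', b', c', h4, h5⟩ := Tr.find_sound h1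
        obtain ⟨h6, h7⟩ := cond_true_of h5
        rw [Nat.ble_eq] at h6
        rw [Nat.blt_eq] at h7
        refine ih b' h7 h6 h4 (evG_mem Y (LG := y :: DG) ?_ (getW ws c)) (Cd.evW hC (List.Forall₂.cons hk hd) _)
        intro g hg
        rcases List.mem_cons.1 hg with rfl | hg
        · exact hy
        · exact hY g hg
      · rw [h3, cond_true] at h1
        exact ⟨k, memB_spec.1 h1, y, hy, hk⟩
  rcases Nat.eq_zero_or_pos b with rfl | hb
  · exact Or.inl (h k a 0 c hm)
  · exact Or.inr (key b hb hm hy hk)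

/-! ### cosets -/

noncomputable def cosL (f : ℕ → ℕ → ℕ) (mem : ℕ → Bool) (T : Tr) (t : ℕ) (S : List ℕ) : ℕ → Bool :=
  List.rec (motive := fun _ => ℕ → Bool) (fun _ => true)
    (fun s _ ih h => T.find (Nat.mod h 1048576) fun _ ti' _ => force (f t s) fun x => force (f x ti') fun z =>
      bif mem z then force (Nat.shiftRight h 20) ih else false) S

/-- the record of a coset representative `t` with inverse `ti` -/
noncomputable def cosN (f : ℕ → ℕ → ℕ) (one : ℕ) (red : ℕ → Bool) (mem : ℕ → Bool) (excl : ℕ → ℕ → Bool) (S : List ℕ) (T : Tr)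
    (t ti h : ℕ) : Bool :=
  bif red t then bif red ti then bif Nat.beq (f ti t) one then
    bif (bif Nat.beq t one then true else excl t ti) then cosL f mem T t S h else false else false else false else false

theorem cosL_spec {f : ℕ → ℕ → ℕ} {mem : ℕ → Bool} {T : Tr} {t : ℕ} {S : List ℕ} : ∀ {h : ℕ}, cosL f mem T t S h = true →
    ∀ s ∈ S, ∃ i t' ti' c, Tr.Mem i t' ti' c T ∧ mem (f (f t s) ti') = true := by
  induction S with
  | nil => intro h _ s hs; simp at hs
  | cons s S ih =>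
    intro h hh
    obtain ⟨a, b, c, h1, h2⟩ := Tr.find_sound (show T.find (Nat.mod h 1048576) (fun _ ti' _ =>
      bif mem (f (f t s) ti') then cosL f mem T t S (Nat.shiftRight h 20) else false) = true from hh)
    obtain ⟨h3, h4⟩ := cond_true_of h2
    intro s' hs'
    rcases List.mem_cons.1 hs' with rfl | hs'
    · exact ⟨_, a, b, c, h1, h3⟩
    · exact ih h4 s' hs'

theorem cos_sound [Finite H] (hC : OK C) {mem : ℕ → Bool} {excl : ℕ → ℕ → Bool} {SG : List H} {S : List ℕ}
    (hS : List.Forall₂ (Cd σ) SG S) {T : Tr} {L N : Subgroup H} (hLN : L ≤ N)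
    (hmem : ∀ z, mem z = true → ∃ g ∈ L, Cd σ g z)
    (hex : ∀ g ∈ N, ∀ t ti, Cd σ g t → Cd σ g⁻¹ ti → ¬ excl t ti = true)
    (h0 : T.find 0 (fun t _ _ => Nat.beq t (oneM C)) = true)
    (h : ∀ i t ti c, Tr.Mem i t ti c T → cosN (mulM C) (oneM C) (redC C) mem excl S T t ti c = true)
    {g : H} (hg : g ∈ sat σ (closure {x | x ∈ SG})) (hN : g ∈ N) : g ∈ sat σ L := by
  have h2 : ∀ {i t ti c}, Tr.Mem i t ti c T → RedG C t ∧ RedG C ti ∧ mat C ti * mat C t = 1 ∧
      (t = oneM C ∨ excl t ti = true) ∧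
      ∀ s ∈ S, ∃ i t' ti' c, Tr.Mem i t' ti' c T ∧ mem (mulM C (mulM C t s) ti') = true := by
    intro i t ti c hm
    obtain ⟨h3, h4⟩ := cond_true_of (h i t ti c hm)
    obtain ⟨h5, h6⟩ := cond_true_of h4
    obtain ⟨h7, h8⟩ := cond_true_of h6
    obtain ⟨h9, h10⟩ := cond_true_of h8
    have r1 := redG_of_check hC.good h3
    have r2 := redG_of_check hC.good h5
    exact ⟨r1, r2, by rw [← mat_mul hC r2 r1, Nat.eq_of_beq_eq_true h7, mat_one hC],
      (cond_or h9).imp_left Nat.eq_of_beq_eq_true, cosL_spec h10⟩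
  have key : ∀ g ∈ closure {x | x ∈ SG}, ∃ l ∈ L, ∃ i t ti c, Tr.Mem i t ti c T ∧ σ g = σ l * mat C t := by
    refine closure_ind ?_ ?_
    · obtain ⟨a, b, c, h3, h4⟩ := Tr.find_sound h0
      exact ⟨1, one_mem _, 0, a, b, c, h3, by rw [Nat.eq_of_beq_eq_true h4, mat_one hC, mul_one]⟩
    · rintro g ⟨l, hl, i, t, ti, c, h3, h4⟩ s hs
      obtain ⟨s', hs', h5⟩ := forall₂_left hS hs
      obtain ⟨r1, -, -, -, h6⟩ := h2 h3
      obtain ⟨i', t', ti', c', h7, h8⟩ := h6 s' hs'
      obtain ⟨-, r2, h9, -, -⟩ := h2 h7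
      obtain ⟨l', hl', h10⟩ := hmem _ h8
      refine ⟨l * l', mul_mem hl hl', i', t', ti', c', h7, ?_⟩
      rw [map_mul, map_mul, h4, h10.2, mat_mul hC (red_mul hC r1 h5.1) r2, mat_mul hC r1 h5.1, h5.2, mul_assoc, mul_assoc,
        mul_assoc, h9, mul_one]
  obtain ⟨g', hg', hgg⟩ := hg
  obtain ⟨l, hl, i, t, ti, c, h3, h4⟩ := key g' hg'
  rw [← hgg] at h4
  obtain ⟨r1, r2, h5, h6, -⟩ := h2 h3
  have h7 : σ (l⁻¹ * g) = mat C t := by
    rw [map_mul, h4, ← mul_assoc, ← map_mul, inv_mul_cancel, map_one, one_mul]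
  rcases h6 with h6 | h6
  · exact ⟨l, hl, by rw [h4, h6, mat_one hC, mul_one]⟩
  · exact absurd h6 (hex _ (mul_mem (inv_mem (hLN hl)) hN) t ti ⟨r1, h7⟩ ⟨r2, map_inv_eq' σ (by rw [h7, h5])⟩)

/-! ### enumeration of `V` -/

/-- products of powers -/
inductive Spn (p : ℕ) : List H → H → Prop
  | nil : Spn p [] 1
  | cons {f u : H} {fs : List H} {c : ℕ} : c ≤ p → Spn p fs u → Spn p (f :: fs) (u * f ^ c)

noncomputable def loopV (f : ℕ → ℕ → ℕ) (a b : ℕ) (k : ℕ → ℕ → Bool) (p : ℕ) : ℕ → ℕ → Bool :=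
  Nat.rec (motive := fun _ => ℕ → ℕ → Bool) k
    (fun _ ih X Z => bif k X Z then force (f b Z) fun Z' => ih (f a X) Z' else false) p

/-- all products of powers with exponents `≤ p`; the first component is evaluated on demand -/
noncomputable def enumV (f : ℕ → ℕ → ℕ) (p : ℕ) (leaf : ℕ → ℕ → Bool) (bs : List (ℕ × ℕ)) : ℕ → ℕ → Bool :=
  List.rec (motive := fun _ => ℕ → ℕ → Bool) leaf
    (fun q _ ih => force q.1 fun a => force q.2 fun b => loopV f a b ih p) bs

theorem loopV_succ (f : ℕ → ℕ → ℕ) (a b : ℕ) (k : ℕ → ℕ → Bool) (n X Z : ℕ) :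
    loopV f a b k (n + 1) X Z = bif k X Z then loopV f a b k n (f a X) (f b Z) else false := rfl

theorem enumV_cons (f : ℕ → ℕ → ℕ) (p : ℕ) (leaf : ℕ → ℕ → Bool) (q : ℕ × ℕ) (bs : List (ℕ × ℕ)) :
    enumV f p leaf (q :: bs) = loopV f q.1 q.2 (enumV f p leaf bs) p := rfl

theorem enumV_sound (hC : OK C) {V : Subgroup H} {t : H} {Φ : H → H} {p : ℕ} {leaf : ℕ → ℕ → Bool} {fs : List H}
    {bs : List (ℕ × ℕ)}
    (h : List.Forall₂ (fun (f : H) (q : ℕ × ℕ) => f ∈ V ∧ Cd σ f q.1 ∧ ∃ ψ, Cd σ ψ q.2 ∧ ∀ v ∈ V, Φ (f * v) = ψ * Φ v) fs bs) :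
    ∀ {v : H} {X Z : ℕ}, v ∈ V → Cd σ (v * t) X → Cd σ (Φ v) Z → enumV (mulM C) p leaf bs X Z = true →
      ∀ u, Spn p fs u → ∃ X' Z', Cd σ (u * v * t) X' ∧ Cd σ (Φ (u * v)) Z' ∧ leaf X' Z' = true := by
  induction h with
  | nil =>
    intro v X Z _ hX hZ he u hu
    cases hu
    exact ⟨X, Z, by rwa [one_mul], by rwa [one_mul], he⟩
  | @cons f q fs bs h1 _ ih =>
    obtain ⟨hf, hq, ψ, hψ, hΦ⟩ := h1
    have key : ∀ n : ℕ, ∀ {v : H} {X Z : ℕ}, v ∈ V → Cd σ (v * t) X → Cd σ (Φ v) Z →
        loopV (mulM C) q.1 q.2 (enumV (mulM C) p leaf bs) n X Z = true → ∀ c ≤ n, ∃ X' Z', Cd σ (f ^ c * v * t) X' ∧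
          Cd σ (Φ (f ^ c * v)) Z' ∧ enumV (mulM C) p leaf bs X' Z' = true := by
      intro n
      induction n with
      | zero =>
        intro v X Z _ hX hZ he c hc
        obtain rfl : c = 0 := by omega
        exact ⟨X, Z, by rwa [pow_zero, one_mul], by rwa [pow_zero, one_mul], he⟩
      | succ n ihn =>
        intro v X Z hv hX hZ he c hc
        rw [loopV_succ] at he
        obtain ⟨h2, h3⟩ := cond_true_of he
        rcases c with _ | c
        · exact ⟨X, Z, by rwa [pow_zero, one_mul], by rwa [pow_zero, one_mul], h2⟩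
        · have h4 := ihn (v := f * v) (mul_mem hf hv) (by rw [mul_assoc]; exact hq.mul hC hX)
            (by rw [hΦ v hv]; exact hψ.mul hC hZ) h3 c (by omega)
          rwa [← mul_assoc, ← pow_succ] at h4
    intro v X Z hv hX hZ he u hu
    rw [enumV_cons] at he
    cases hu with
    | @cons _ u _ c hc hu =>
      obtain ⟨X', Z', h2, h3, h4⟩ := key p hv hX hZ he c hc
      have h5 := ih (mul_mem (pow_mem hf c) hv) h2 h3 h4 u hu
      rwa [← mul_assoc] at h5

end Cfsg.Agent.BX.Cov
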