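import Cfsg.Agent.BX.Cov.K
import Cfsg.Agent.Prune
set_option linter.all false
open scoped Cfsg.Agent.FastGrp

/-!
# Kernel checks for covers: the assembly (a copy of `BMx/CovMain` with light imports)

`cover_of` : `Cover M dw aw tw` from the checks `baseC` (small data), `grpN`/`desN` (the list `L` of the diagonal parts),
`cosN` (the cosets of `L`), `tgtC` (one for each target), `vecC` (the translations).
-/

set_option autoImplicit false

namespace Cfsg.Agent.BX.Cov

open Cfsg.Agent.BMx.Cov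
open Subgroup Cfsg.Agent.Lib.PackMat Cfsg.Agent.Lib.PackMatMul
open Cfsg.Agent.Lib.PackMatGroup (evG evG_nil evG_cons evG_mem)
open Cfsg.Agent.Lib.PackMatOrbit (getO getW memB memB_spec)

variable {C : Cfsg.Agent.Lib.PackMat.Cfg} {H : Type*} [Group H]

/-! ### shapes -/

noncomputable def shapeB (C : Cfg) (A : ℕ) (g : ℕ → ℕ → Bool) : Bool :=
  allBelow (fun i => allBelow (fun k => Nat.beq (dg C.s A (i + C.n * k)) (bif g i k then 1 else 0)) C.n) C.n

theorem shapeB_spec {A : ℕ} {g : ℕ → ℕ → Bool} (h : shapeB C A g = true) (i k : Fin C.n) :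
    mat C A i k = if g i k = true then 1 else 0 := by
  have h1 := Nat.eq_of_beq_eq_true (allBelow_spec (allBelow_spec h i i.2) k k.2)
  rw [mat_def, h1]
  cases g i k <;> simp

/-- the last index -/
def lastI (hC : OK C) : Fin C.n := ⟨C.n - 1, by have := hC.good.hn; omega⟩

/-- the idempotent at the last index -/
def FF (hC : OK C) : Mt C := Matrix.single (lastI hC) (lastI hC) 1

theorem idem (hC : OK C) : Idem (1 - FF hC) (FF hC) := by
  have h : FF hC * FF hC = FF hC := by
    unfold FF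
    rw [Matrix.single_mul_single_same, mul_one]
  refine ⟨sub_add_cancel _ _, ?_, h, ?_, ?_⟩
  · rw [mul_sub, mul_one, sub_mul, one_mul, h, sub_self, sub_zero]
  · rw [sub_mul, one_mul, h, sub_self]
  · rw [mul_sub, mul_one, h, sub_self]

theorem eq_last (hC : OK C) (i : Fin C.n) : Nat.beq i (C.n - 1) = true ↔ lastI hC = i := by
  rw [Nat.beq_eq]
  exact ⟨fun h => Fin.ext h.symm, fun h => (congrArg Fin.val h).symm⟩

theorem eq_fin (i k : Fin C.n) : Nat.beq i k = true ↔ i = k := by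
  rw [Nat.beq_eq]
  exact Fin.ext_iff.symm

theorem mat_F (hC : OK C) {A : ℕ} (h : shapeB C A (fun i k => Nat.beq i (C.n - 1) && Nat.beq k (C.n - 1)) = true) :
    mat C A = FF hC := by
  ext i k
  rw [shapeB_spec h]
  simp only [Bool.and_eq_true, eq_last hC, FF, Matrix.single, Matrix.of_apply]

theorem mat_E (hC : OK C) {A : ℕ} (h : shapeB C A (fun i k => Nat.beq i k && !(Nat.beq k (C.n - 1))) = true) :
    mat C A = 1 - FF hC := by
  ext i k
  rw [shapeB_spec h]
  simp only [Bool.and_eq_true, Bool.not_eq_true', ← Bool.not_eq_true, eq_last hC, eq_fin, FF, Matrix.single, Matrix.of_apply,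
    Matrix.sub_apply, Matrix.one_apply]
  by_cases h1 : i = k
  · subst h1
    by_cases h2 : lastI hC = i <;> simp [h2]
  · by_cases h2 : lastI hC = i
    · subst h2
      simp [h1]
    · simp [h1, h2]

theorem mat_B (hC : OK C) {A : ℕ} {j : Fin C.n} (hj : j ≠ lastI hC)
    (h : shapeB C A (fun i k => Nat.beq i k || (Nat.beq i j && Nat.beq k (C.n - 1))) = true) :
    mat C A = 1 + Matrix.single j (lastI hC) 1 := by
  ext i k
  rw [shapeB_spec h]
  simp only [Bool.and_eq_true, Bool.or_eq_true, eq_last hC, eq_fin, Matrix.single, Matrix.of_apply,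
    Matrix.add_apply, Matrix.one_apply]
  by_cases h1 : i = k
  · subst h1
    have h2 : ¬ (j = i ∧ lastI hC = i) := fun h3 => hj (h3.1.trans h3.2.symm)
    simp [h2]
  · by_cases h2 : i = j
    · subst h2
      simp [h1]
    · simp [h1, h2, Ne.symm h2]

theorem mat_zero : mat C 0 = 0 := by
  ext i k
  simp [mat_def, dg_def]

/-- the basis codes, the first one has index `j` -/
noncomputable def basB (C : Cfg) (bc : List ℕ) : ℕ → Bool :=
  List.rec (motive := fun _ => ℕ → Bool) (fun j => Nat.beq j (C.n - 1))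
    (fun b _ ih j => bif shapeB C b (fun i k => Nat.beq i k || (Nat.beq i j && Nat.beq k (C.n - 1))) then ih (j + 1) else false) bc

variable {ρ : H →* Mt C}

theorem basB_le {bc : List ℕ} : ∀ {j : ℕ}, basB C bc j = true → j ≤ C.n - 1 := by
  induction bc with
  | nil => exact fun h => (Nat.eq_of_beq_eq_true h).le
  | cons b bc ih => exact fun h => (Nat.le_succ _).trans (ih (cond_true_of h).2)

theorem bas_sound (hC : OK C) (h : Tri ρ (1 - FF hC) (FF hC)) {fs : List H} {bc : List ℕ} (hf : List.Forall₂ (Cd ρ) fs bc) :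
    ∀ {j : ℕ}, basB C bc j = true → (∀ f ∈ fs, f ∈ h.piH.ker) ∧ ∀ v ∈ h.piH.ker,
      (∀ i : Fin C.n, i.val < j → (ρ v - 1) i (lastI hC) = 0) → Spn (C.p - 1) fs v := by
  have hp := hC.hp
  have : NeZero C.p := ⟨by omega⟩
  induction hf with
  | nil =>
    intro j hj
    refine ⟨fun f hf => by simp at hf, fun v hv h1 => ?_⟩
    have hj' : j = C.n - 1 := Nat.eq_of_beq_eq_true hj
    have h2 : ρ v - 1 = 0 := by
      have h3 : ρ v - 1 = (ρ v - 1) * FF hC := by
        have h4 := h.UE hv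
        rw [mul_sub, mul_one, sub_eq_zero] at h4
        exact h4
      ext i k
      by_cases hk : k = lastI hC
      · subst hk
        by_cases hi : i = lastI hC
        · have h4 := congrFun (congrFun (h.FU hv) i) i
          rw [hi] at h4 ⊢
          rwa [FF, Matrix.single_mul_apply_same, one_mul] at h4
        · refine h1 i ?_
          have h5 := i.2
          have h6 : i.val ≠ C.n - 1 := fun h7 => hi (Fin.ext h7)
          omega
      · rw [h3, FF, Matrix.mul_single_apply_of_ne _ _ _ _ _ hk]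
        rfl
    have h5 : v = 1 := h.inj (by rw [map_one]; exact sub_eq_zero.1 h2)
    rw [h5]
    exact Spn.nil
  | @cons f b fs bc h1 _ ih =>
    intro j hj
    obtain ⟨h2, h3⟩ := cond_true_of (show (bif shapeB C b (fun i k => Nat.beq i k || (Nat.beq i j && Nat.beq k (C.n - 1)))
      then basB C bc (j + 1) else false) = true from hj)
    have hj1 := basB_le h3
    let J : Fin C.n := ⟨j, by omega⟩
    have hJ : J ≠ lastI hC := fun h4 => by
      have h5 : j = C.n - 1 := congrArg Fin.val h4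
      omega
    have h4 : ρ f = 1 + Matrix.single J (lastI hC) 1 := h1.2.trans (mat_B hC hJ h2)
    have hfV : f ∈ h.piH.ker := by
      rw [h.mem_ker, h4]
      constructor
      · rw [add_mul, one_mul, mul_sub, mul_one, FF, Matrix.single_mul_single_same, mul_one, sub_self, add_zero]
      · rw [mul_add, mul_one, FF, Matrix.single_mul_single_of_ne _ _ _ _ hJ.symm, add_zero]
    obtain ⟨ih1, ih2⟩ := ih h3
    refine ⟨fun f' hf' => ?_, fun v hv h5 => ?_⟩
    · rcases List.mem_cons.1 hf' with rfl | hf'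
      · exact hfV
      · exact ih1 f' hf'
    · obtain ⟨c, hc⟩ : ∃ c, c = ((ρ v - 1) J (lastI hC)).val := ⟨_, rfl⟩
      have hcp : c ≤ C.p - 1 := by
        have := ZMod.val_lt ((ρ v - 1) J (lastI hC))
        omega
      have hfc := pow_mem hfV c
      have hu : v * (f ^ c)⁻¹ ∈ h.piH.ker := mul_mem hv (inv_mem hfc)
      have h6 : ρ (v * (f ^ c)⁻¹) - 1 = (ρ v - 1) - (c : Mt C) * Matrix.single J (lastI hC) 1 := by
        have h7 : ρ v = ρ (v * (f ^ c)⁻¹) * ρ (f ^ c) := by rw [← map_mul, inv_mul_cancel_right]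
        have e : ∀ a b : Mt C, a * b = (a - 1) * (b - 1) + (a + b - 1) := fun a b => by noncomm_ring
        rw [e, h.UU hu hfc, zero_add, h.pow hfV, h4, add_sub_cancel_left] at h7
        rw [h7]
        abel
      have h8 := ih2 _ hu (fun i hi => by
        rw [h6, Matrix.sub_apply, ← nsmul_eq_mul, Matrix.smul_apply]
        by_cases h9 : i = J
        · rw [h9, Matrix.single_apply_same, nsmul_eq_mul, mul_one, hc, ZMod.natCast_zmod_val, sub_self]
        · have h10 : i.val < j := by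
            have h11 : i.val ≠ j := fun h12 => h9 (Fin.ext h12)
            omega
          rw [h5 i h10, Matrix.single_apply_of_row_ne (Ne.symm h9), smul_zero, sub_zero])
      have h9 := Spn.cons (f := f) hcp h8
      rwa [inv_mul_cancel_right] at h9

/-! ### membership in `V`, diagonal parts -/

noncomputable def inV (f : ℕ → ℕ → ℕ) (E F z : ℕ) : Bool := bif Nat.beq (f z E) E then Nat.beq (f F z) F else false

/-- the codes of the idempotents -/
structure EF (e0 f0 : Mt C) (E F : ℕ) : Prop where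
  rE : RedG C E
  rF : RedG C F
  mE : mat C E = e0
  mF : mat C F = f0

variable {e0 f0 : Mt C}

theorem inV_iff (hC : OK C) (h : Tri ρ e0 f0) {E F : ℕ} (e : EF e0 f0 E F) {g : H} {z : ℕ} (hg : Cd ρ g z) :
    inV (mulM C) E F z = true ↔ g ∈ h.piH.ker := by
  rw [h.mem_ker, hg.2]
  rw [← e.mE, ← e.mF, ← mat_mul hC hg.1 e.rE, ← mat_mul hC e.rF hg.1]
  constructor
  · intro h1
    obtain ⟨h2, h3⟩ := cond_true_of h1
    rw [Nat.eq_of_beq_eq_true h2, Nat.eq_of_beq_eq_true h3]
    exact ⟨rfl, rfl⟩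
  · rintro ⟨h1, h2⟩
    unfold inV
    rw [redG_inj (red_mul hC hg.1 e.rE) e.rE h1, redG_inj (red_mul hC e.rF hg.1) e.rF h2, Nat.beq_refl, Nat.beq_refl]
    rfl

noncomputable def barB (f : ℕ → ℕ → ℕ) (red : ℕ → Bool) (E F X B : ℕ) : Bool :=
  bif red X then bif red B then bif Nat.beq (f (f F X) E) 0 then bif Nat.beq (f B E) (f X E) then
    bif Nat.beq (f F B) (f F X) then Nat.beq (f (f E B) F) 0 else false else false else false else false else false

theorem barB_spec (hC : OK C) (hi : Idem e0 f0) {E F : ℕ} (e : EF e0 f0 E F) {X B : ℕ}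
    (h : barB (mulM C) (redC C) E F X B = true) :
    RedG C X ∧ RedG C B ∧ f0 * mat C X * e0 = 0 ∧ e0 * mat C X * e0 + f0 * mat C X * f0 = mat C B := by
  obtain ⟨h1, h⟩ := cond_true_of h
  obtain ⟨h2, h⟩ := cond_true_of h
  obtain ⟨h3, h⟩ := cond_true_of h
  obtain ⟨h4, h⟩ := cond_true_of h
  obtain ⟨h5, h6⟩ := cond_true_of h
  have r1 := redG_of_check hC.good h1
  have r2 := redG_of_check hC.good h2
  have k3 := congrArg (mat C) (Nat.eq_of_beq_eq_true h3)
  have k4 := congrArg (mat C) (Nat.eq_of_beq_eq_true h4)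
  have k5 := congrArg (mat C) (Nat.eq_of_beq_eq_true h5)
  have k6 := congrArg (mat C) (Nat.eq_of_beq_eq_true h6)
  rw [mat_mul hC (red_mul hC e.rF r1) e.rE, mat_mul hC e.rF r1, mat_zero, e.mE, e.mF] at k3
  rw [mat_mul hC r2 e.rE, mat_mul hC r1 e.rE, e.mE] at k4
  rw [mat_mul hC e.rF r2, mat_mul hC e.rF r1, e.mF] at k5
  rw [mat_mul hC (red_mul hC e.rE r2) e.rF, mat_mul hC e.rE r2, mat_zero, e.mE, e.mF] at k6
  exact ⟨r1, r2, k3, hi.beta_eq k3 k4 k5 k6⟩

/-! ### the affine enumeration -/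

noncomputable def mkBs (g : ℕ → ℕ) (bc : List ℕ) : (List (ℕ × ℕ) → Bool) → Bool :=
  List.rec (motive := fun _ => (List (ℕ × ℕ) → Bool) → Bool) (fun k => k [])
    (fun b _ ih k => force b fun b => force (g b) fun y => ih fun l => k ((b, y) :: l)) bc

theorem mkBs_eq (g : ℕ → ℕ) (bc : List ℕ) : ∀ k, mkBs g bc k = k (bc.map fun b => (b, g b)) := by
  induction bc with
  | nil => exact fun _ => rfl
  | cons b bc ih => exact fun k => ih fun l => k ((b, g b) :: l)

noncomputable def enumC (f : ℕ → ℕ → ℕ) (one pm : ℕ) (bc : List ℕ) (t : ℕ) (cs w : List ℕ) (e : ℕ) (leaf : ℕ → ℕ → Bool) : Bool :=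
  force (evW f one (t :: cs) w) fun Z => force (powN f one Z e) fun Zi => bif Nat.beq (f Z Zi) one then
    mkBs (fun b => force (f b t) fun x => force (evW f one (x :: cs) w) fun y => f y Zi) bc fun bs => enumV f pm leaf bs t Z
  else false

theorem enumC_sound (hC : OK C) (h : Tri ρ e0 f0) {fs : List H} {bc : List ℕ} (hf : List.Forall₂ (Cd ρ) fs bc)
    (h1 : ∀ f ∈ fs, f ∈ h.piH.ker) (h2 : ∀ v ∈ h.piH.ker, Spn (C.p - 1) fs v) {t : H} {tc : ℕ} (ht : Cd ρ t tc) {CG : List H} {cs : List ℕ} (hc : List.Forall₂ (Cd ρ) CG cs)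
    {w : List ℕ} {e : ℕ} {leaf : ℕ → ℕ → Bool} (he : enumC (mulM C) (oneM C) (C.p - 1) bc tc cs w e leaf = true)
    {v : H} (hv : v ∈ h.piH.ker) : ∃ X Z, Cd ρ (v * t) X ∧ Cd ρ (evG (v * t :: CG) w) Z ∧ leaf X Z = true := by
  unfold enumC at he
  simp only [fe] at he
  obtain ⟨h3, h4⟩ := cond_true_of he
  rw [mkBs_eq] at h4
  have hZ := Cd.evW hC (List.Forall₂.cons ht hc) w
  have hZi := hZ.inv hC (hZ.pow hC e).1 (Nat.eq_of_beq_eq_true h3)
  have h5 := enumV_sound (σ := ρ) hC (V := h.piH.ker) (t := t) (Φ := fun v => evG (v * t :: CG) w) (fs := fs) ?_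
    (one_mem _) (by rwa [one_mul]) (by rw [one_mul]; exact hZ) h4 v (h2 v hv)
  · rwa [mul_one] at h5
  · clear h2 h4 he
    induction hf with
    | nil => exact List.Forall₂.nil
    | @cons f b fs bc h6 _ ih =>
      refine List.Forall₂.cons ⟨h1 f List.mem_cons_self, h6, evG (f * t :: CG) w * (evG (t :: CG) w)⁻¹, ?_, fun v hv => ?_⟩
        (ih fun f' hf' => h1 f' (List.mem_cons_of_mem _ hf'))
      · exact (Cd.evW hC (List.Forall₂.cons (h6.mul hC ht) hc) w).mul hC hZi
      · exact affine' _ (fun _ hu _ hv => h.comm hu hv) t CG w (h1 f List.mem_cons_self) hv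

/-! ### the checks -/

noncomputable def getK {α : Type} (l : List α) (k : α → Bool) : ℕ → Bool :=
  List.rec (motive := fun _ => ℕ → Bool) (fun _ => false) (fun a _ ih i => Nat.rec (k a) (fun j _ => ih j) i) l

theorem getK_spec {α : Type} {l : List α} {k : α → Bool} : ∀ {i : ℕ}, getK l k i = true → ∃ a ∈ l, k a = true := by
  induction l with
  | nil => exact fun h => absurd h (by show ¬ false = true; decide)
  | cons a l ih =>
    intro i h
    rcases i with _ | i
    · exact ⟨a, List.mem_cons_self, h⟩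
    · obtain ⟨b, hb, h2⟩ := ih (i := i) h
      exact ⟨b, List.mem_cons_of_mem _ hb, h2⟩

/-- a target: codes of the element and of its diagonal part, a relator, more words -/
structure Tg where
  t : ℕ
  b : ℕ
  w : List ℕ
  alts : List (List ℕ)

/-- the small data -/
structure Dat (r : ℕ) where
  P : ℕ
  Q : ℕ
  G0 : List ℕ
  E0 : ℕ
  F0 : ℕ
  bc0 : List ℕ
  G : List ℕ
  Gb : List ℕ
  E : ℕ
  F : ℕ
  bw : List (List (Fin r × ℕ))
  bc : List ℕ
  sw : List (List (Fin r × ℕ))
  sb : List ℕ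
  gw : List (List ℕ)
  lw : List (List (Fin r × ℕ))
  lb : List ℕ
  le : ℕ
  dc : List ℕ
  db : List ℕ
  ac : List ℕ
  ab : List ℕ
  Dt : Tr
  Db : Tr
  At : Tr
  Ab : Tr
  DV : List ℕ
  xa : List ℕ
  xu : List ℕ
  gt : List (List (Fin r × ℕ))
  tc : List ℕ
  tb : List ℕ
  Tt : Tr
  ws : List (List ℕ)

variable {r : ℕ}

noncomputable def conjB (f : ℕ → ℕ → ℕ) (T : Tr) (t ti a : ℕ) : Bool := force (f t a) fun x => force (f x ti) T.has

theorem conjB_eq (f : ℕ → ℕ → ℕ) (T : Tr) (t ti a : ℕ) : conjB f T t ti a = T.has (f (f t a) ti) := rfl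

noncomputable def exclB (f : ℕ → ℕ → ℕ) (d : Dat r) (t ti : ℕ) : Bool :=
  bif anyL d.xa (fun a => bif conjB f d.Ab t ti a then false else true) then true
  else anyL d.xu (fun u => bif conjB f d.At t ti u then false else true)

noncomputable def normB (f : ℕ → ℕ → ℕ) (one : ℕ) (d : Dat r) (l : ℕ) : Bool :=
  force (powN f one l d.le) fun li => bif Nat.beq (f l li) one then bif allL d.ab (conjB f d.Ab l li) then
    d.At.all fun u _ _ _ => bif inV f d.E d.F u then conjB f d.At l li u else true else false else false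

noncomputable def tgtB (f : ℕ → ℕ → ℕ) (one pm : ℕ) (d : Dat r) (q : Tg) : Bool :=
  bif Nat.beq (evW f one (q.b :: d.db) q.w) one then
    enumC f one pm d.bc q.t d.dc q.w pm fun X Z => bif memB Z d.DV then force X fun X =>
      anyL q.alts fun u => force (evW f one (X :: d.dc) u) fun z => bif d.Tt.find z (fun _ _ _ => true) then true else
        bif inV f d.E d.F z then bif memB z d.DV then false else true else false
    else true
  else false

noncomputable def vecB (f : ℕ → ℕ → ℕ) (one pm : ℕ) (d : Dat r) (e : ℕ) (alts : List (List ℕ)) : Bool :=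
  enumC f one pm d.bc one d.ac (0 :: 1 :: List.replicate pm 0) e fun X Z => bif d.At.has Z then force X fun X =>
    bif d.Dt.has X then true else
      bif anyL alts (fun u => force (evW f one (X :: d.dc) u) fun z => d.Tt.find z fun _ _ _ => true) then true else
        anyL d.ac fun a => force (evW f one [X, a] (0 :: 1 :: List.replicate pm 0)) fun z => bif d.At.has z then false else true
    else true

/-- the check of the small data -/
noncomputable def baseC (C : Cfg) (d : Dat r) (dw aw : List (List (Fin r × ℕ))) : Bool :=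
  withM C fun f => force (oneM C) fun one =>
    (redC C d.P && redC C d.Q && Nat.beq (f d.P d.Q) one && Nat.beq (f d.Q d.P) one &&
    redC C d.E0 && redC C d.F0 && shapeB C d.E0 (fun i k => Nat.beq i k && !(Nat.beq k (C.n - 1))) &&
    shapeB C d.F0 (fun i k => Nat.beq i (C.n - 1) && Nat.beq k (C.n - 1)) &&
    Nat.beq (f (f d.Q d.E0) d.P) d.E && Nat.beq (f (f d.Q d.F0) d.P) d.F &&
    allBelow (fun i => redC C (getO one d.G0 i) && Nat.beq (f (f d.Q (getO one d.G0 i)) d.P) (getO one d.G i)) r &&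
    codesB f one d.G0 d.bw d.bc0 && basB C d.bc0 0) &&
    allBelow (fun i => barB f (redC C) d.E d.F (getO one d.G i) (getO one d.Gb i)) r &&
    codesB f one d.G d.bw d.bc && codesB f one d.Gb d.sw d.sb &&
    allBelow (fun i => Nat.beq (evW f one d.sb (getW d.gw i)) (getO one d.Gb i)) r &&
    codesB f one d.Gb d.lw d.lb && codesB f one d.G dw d.dc && codesB f one d.Gb dw d.db &&
    codesB f one d.G aw d.ac && codesB f one d.Gb aw d.ab &&
    grpC f one (redC C) d.dc d.Dt && grpC f one (redC C) d.db d.Db && grpC f one (redC C) d.ac d.At &&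
    grpC f one (redC C) d.ab d.Ab &&
    (d.Dt.all fun k _ _ _ => bif inV f d.E d.F k then memB k d.DV else true) &&
    allL d.xa d.Ab.has && (allL d.xu fun u => bif d.At.has u then inV f d.E d.F u else false) &&
    allL d.lb (normB f one d) && codesB f one d.G d.gt d.tc && codesB f one d.Gb d.gt d.tb

/-- the keys of the tree of the tests -/
noncomputable def tstP (C : Cfg) (d : Dat r) (tw : List (List (Fin r × ℕ))) (k i : ℕ) : Bool :=
  getK tw (fun w => Nat.beq (evE (mulM C) (oneM C) d.G w) k) i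

noncomputable def tstC (C : Cfg) (d : Dat r) (tw : List (List (Fin r × ℕ))) (u : Tr) : Bool :=
  withM C fun f => force (oneM C) fun one => u.all fun k i _ _ => getK tw (fun w => Nat.beq (evE f one d.G w) k) i

theorem tstC_sound {d : Dat r} {tw : List (List (Fin r × ℕ))} {u : Tr} (h : tstC C d tw u = true) :
    u.All fun k i _ _ => tstP C d tw k i := by
  unfold tstC at h
  rw [we, fe] at h
  exact Tr.all_sound h

/-- a record of `L` -/
noncomputable def lstP (C : Cfg) (d : Dat r) (L : Tr) (k a b c : ℕ) : Bool :=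
  bif grpN (mulM C) (oneM C) (redC C) d.lb L k a then desN (mulM C) (oneM C) d.ws d.db d.Db d.tb L k b c else false

noncomputable def lstC (C : Cfg) (d : Dat r) (L u : Tr) : Bool :=
  withM C fun f => force (oneM C) fun one => u.all fun k a b c =>
    bif grpN f one (redC C) d.lb L k a then desN f one d.ws d.db d.Db d.tb L k b c else false

theorem lstC_sound {d : Dat r} {L u : Tr} (h : lstC C d L u = true) : u.All (lstP C d L) := by
  unfold lstC at h
  rw [we, fe] at h
  exact Tr.all_sound h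

/-- a record of `T` -/
noncomputable def cosP (C : Cfg) (d : Dat r) (L T : Tr) (_i t ti c : ℕ) : Bool :=
  cosN (mulM C) (oneM C) (redC C) (fun z => L.find z fun _ _ _ => true) (exclB (mulM C) d) d.sb T t ti c

noncomputable def cosC (C : Cfg) (d : Dat r) (L T u : Tr) : Bool :=
  withM C fun f => force (oneM C) fun one => u.all fun _ t ti c =>
    cosN f one (redC C) (fun z => L.find z fun _ _ _ => true) (exclB f d) d.sb T t ti c

theorem cosC_sound {d : Dat r} {L T u : Tr} (h : cosC C d L T u = true) : u.All (cosP C d L T) := by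
  unfold cosC at h
  rw [we, fe] at h
  exact Tr.all_sound h

noncomputable def rootC (C : Cfg) (L T : Tr) : Bool :=
  bif L.find (oneM C) (fun _ _ _ => true) then T.find 0 fun t _ _ => Nat.beq t (oneM C) else false

noncomputable def tgtC (C : Cfg) (d : Dat r) (qs : List Tg) : Bool :=
  withM C fun f => force (oneM C) fun one => force (C.p - 1) fun pm => allL qs (tgtB f one pm d)

theorem tgtC_sound {d : Dat r} {qs : List Tg} (h : tgtC C d qs = true) :
    ∀ q ∈ qs, tgtB (mulM C) (oneM C) (C.p - 1) d q = true := by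
  unfold tgtC at h
  rw [we, fe, fe] at h
  exact allL_spec h

noncomputable def vecC (C : Cfg) (d : Dat r) (e : ℕ) (alts : List (List ℕ)) : Bool :=
  withM C fun f => force (oneM C) fun one => force (C.p - 1) fun pm => vecB f one pm d e alts

theorem chunk {α : Type} {l : List α} {P : α → Prop} (a c : ℕ) (h1 : ∀ q ∈ (l.drop a).take c, P q)
    (h2 : ∀ q ∈ l.drop (a + c), P q) : ∀ q ∈ l.drop a, P q := by
  intro q hq
  rw [← List.take_append_drop c (l.drop a), List.mem_append, List.drop_drop] at hq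
  exact hq.elim (h1 q) (h2 q)

/-- `5 × 5` matrices over `ZMod 5` -/
def C5 : Cfg := ⟨5, 14, 5, 3, 0, 0, 103, 9⟩

/-- `9 × 9` matrices over `ZMod 3` -/
def C3 : Cfg := ⟨9, 8, 3, 2, 1, 2, 11, 5⟩

theorem good5 : C5.good = true := by decide +kernel

theorem good3 : C3.good = true := by decide +kernel

/-! ### the assembly -/

theorem gp_eq (gen : Fin r → H) (l : List (List (Fin r × ℕ))) : gp gen l = closure {x | x ∈ l.map (ev gen)} := by
  unfold gp
  congr 1
  ext x
  simp only [Set.mem_ofPred_eq, List.mem_map]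
  exact ⟨fun ⟨w, h1, h2⟩ => ⟨w, h1, h2.symm⟩, fun ⟨w, h1, h2⟩ => ⟨w, h1, h2.symm⟩⟩

theorem evG_replicate (x : H) (cs : List H) (n : ℕ) : evG (x :: cs) (List.replicate n 0) = x ^ n := by
  induction n with
  | zero => rw [List.replicate_zero, evG_nil, pow_zero]
  | succ n ih => rw [List.replicate_succ, evG_cons, ih, List.getD_cons_zero, pow_succ']

theorem sat_inj {σ : H →* Mt C} (h : Function.Injective σ) {K : Subgroup H} {g : H} : g ∈ sat σ K ↔ g ∈ K :=
  ⟨fun ⟨_, ha, h1⟩ => h h1 ▸ ha, fun hg => ⟨g, hg, rfl⟩⟩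

theorem forall₂_pair {σ τ : H →* Mt C} {LG : List H} {qs : List Tg} (h1 : List.Forall₂ (Cd σ) LG (qs.map Tg.t))
    (h2 : List.Forall₂ (Cd τ) LG (qs.map Tg.b)) {k : ℕ} (hk : k ∈ qs.map Tg.b) :
    ∃ q ∈ qs, q.b = k ∧ ∃ g, Cd σ g q.t ∧ Cd τ g q.b := by
  induction qs generalizing LG with
  | nil => simp at hk
  | cons q qs ih =>
    rw [List.map_cons] at h1 h2 hk
    cases h1 with
    | cons a1 b1 =>
      cases h2 with
      | cons a2 b2 =>
        rcases List.mem_cons.1 hk with rfl | hk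
        · exact ⟨q, List.mem_cons_self, rfl, _, a1, a2⟩
        · obtain ⟨q', hq', h3⟩ := ih b1 b2 hk
          exact ⟨q', List.mem_cons_of_mem _ hq', h3⟩

/-- **The cover.** -/
theorem cover_of (hg : C.good = true) (hp : 1 < C.p) {d : Dat r} {dw aw tw : List (List (Fin r × ℕ))} {L T : Tr} {qs : List Tg}
    {e : ℕ} {alts : List (List ℕ)} (c1 : baseC C d dw aw = true) (c2 : d.Tt.All fun k i _ _ => tstP C d tw k i)
    (c3 : L.All (lstP C d L)) (c4 : T.All (cosP C d L T)) (c5 : rootC C L T = true)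
    (c6 : ∀ q ∈ qs, tgtB (mulM C) (oneM C) (C.p - 1) d q = true) (c7 : d.tc = qs.map Tg.t) (c8 : d.tb = qs.map Tg.b)
    (c9 : vecC C d e alts = true) {M : Fin r → Mt C} (hM : ∀ i, M i = mat C (getO (oneM C) d.G0 i.val)) :
    Cover M dw aw tw := by
  intro H _ _ gen ρ0 hinj0 hgen htop Y hYD hYA hYT
  have hC : OK C := ⟨good_of_check hg, hp⟩
  unfold baseC at c1
  rw [we, fe] at c1
  simp only [Bool.and_eq_true] at c1
  unfold vecC at c9
  rw [we, fe, fe] at c9
  unfold vecB at c9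
  simp only [fe] at c9
  obtain ⟨⟨⟨⟨⟨⟨⟨⟨⟨⟨⟨⟨⟨⟨⟨⟨⟨⟨⟨⟨⟨⟨⟨⟨⟨⟨⟨⟨⟨⟨⟨a1, a2⟩, a3⟩, a4⟩, a5⟩, a6⟩, a7⟩, a8⟩, a9⟩, a10⟩, a11⟩, a12⟩, a13⟩, b5⟩, b6⟩, b8⟩, b9⟩,
    b10⟩, b11⟩, b12⟩, b13⟩, b14⟩, b15⟩, b16⟩, b17⟩, b18⟩, b19⟩, b20⟩, b21⟩, b22⟩, b23⟩, b24⟩ := c1
  have rP := redG_of_check hC.good a1
  have rQ := redG_of_check hC.good a2
  have hPQ : mat C d.P * mat C d.Q = 1 := by rw [← mat_mul hC rP rQ, Nat.eq_of_beq_eq_true a3, mat_one hC]
  have hQP : mat C d.Q * mat C d.P = 1 := by rw [← mat_mul hC rQ rP, Nat.eq_of_beq_eq_true a4, mat_one hC]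
  obtain ⟨φ, hφ⟩ : ∃ φ, φ = cjH hPQ hQP := ⟨_, rfl⟩
  have iφ : Function.Injective φ := hφ ▸ cjH_inj hPQ hQP
  have hcj : ∀ {x y : ℕ}, RedG C x → Nat.beq (mulM C (mulM C d.Q x) d.P) y = true → RedG C y ∧ mat C y = φ (mat C x) := by
    intro x y hx h1
    rw [← Nat.eq_of_beq_eq_true h1, mat_mul hC (red_mul hC rQ hx) rP, mat_mul hC rQ hx, hφ]
    exact ⟨red_mul hC (red_mul hC rQ hx) rP, rfl⟩
  have hE := hcj (redG_of_check hC.good a5) a9
  have hF := hcj (redG_of_check hC.good a6) a10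
  rw [mat_E hC a7] at hE
  rw [mat_F hC a8] at hF
  have ef : EF (φ (1 - FF hC)) (φ (FF hC)) d.E d.F := ⟨hE.1, hF.1, hE.2, hF.2⟩
  have hbar := fun i : Fin r => barB_spec hC ((idem hC).map φ) ef (allBelow_spec b5 i i.2)
  have hG0 : ∀ i, Cd ρ0 (gen i) (getO (oneM C) d.G0 i.val) := fun i =>
    ⟨redG_of_check hC.good (Bool.and_eq_true_iff.1 (allBelow_spec a11 i i.2)).1, (hgen i).trans (hM i)⟩
  obtain ⟨ρ, hρ⟩ : ∃ ρ, ρ = φ.toMonoidHom.comp ρ0 := ⟨_, rfl⟩
  have hinj : Function.Injective ρ := by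
    rw [hρ]
    exact iφ.comp hinj0
  have hG : ∀ i, Cd ρ (gen i) (getO (oneM C) d.G i.val) := fun i => ⟨(hbar i).1, by
    rw [(hcj (hG0 i).1 (Bool.and_eq_true_iff.1 (allBelow_spec a11 i i.2)).2).2, ← (hG0 i).2, hρ]
    rfl⟩
  have h : Tri ρ (φ (1 - FF hC)) (φ (FF hC)) := ⟨(idem hC).map φ, hinj, tri_of_gen ((idem hC).map φ) htop (by
    rintro _ ⟨i, rfl⟩
    rw [(hG i).2]
    exact (hbar i).2.2.1)⟩
  obtain ⟨s1, s2⟩ : (∀ f ∈ d.bw.map (ev gen), f ∈ h.piH.ker) ∧ ∀ v ∈ h.piH.ker, Spn (C.p - 1) (d.bw.map (ev gen)) v := by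
    subst hρ
    have h0 := Tri.comap iφ (idem hC) h
    obtain ⟨h1, h2⟩ := bas_sound hC h0 (codesB_sound hC hG0 a12) a13
    rw [← Tri.ker_comap iφ h0 h]
    exact ⟨h1, fun v hv => h2 v hv fun i hi => absurd hi (Nat.not_lt_zero _)⟩
  have hGb : ∀ i, Cd h.piH (gen i) (getO (oneM C) d.Gb i.val) := fun i =>
    ⟨(hbar i).2.1, by rw [h.piH_apply, (hG i).2]; exact (hbar i).2.2.2⟩
  have fB := codesB_sound hC hG b6
  have fS := codesB_sound hC hGb b8
  have fL := codesB_sound hC hGb b10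
  have fD := codesB_sound hC hG b11
  have fDb := codesB_sound hC hGb b12
  have fA := codesB_sound hC hG b13
  have fAb := codesB_sound hC hGb b14
  have fT := codesB_sound hC hG b23
  have fTb := codesB_sound hC hGb b24
  have eD := grpC_sound hC fD b15
  have eDb := grpC_sound hC fDb b16
  have eA := grpC_sound hC fA b17
  have eAb := grpC_sound hC fAb b18
  have eL := grp_sound hC fL (cond_true_of c5).1 fun k a b c hm => (cond_true_of (c3 k a b c hm)).1
  rw [gp_eq] at hYA ⊢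
  obtain ⟨D, hD⟩ : ∃ D, D = closure {x | x ∈ dw.map (ev gen)} := ⟨_, rfl⟩
  rw [← hD] at eD eDb ⊢
  have hYD' : ∀ g ∈ dw.map (ev gen), g ∈ Y := by
    intro g hg
    obtain ⟨w, hw, rfl⟩ := List.mem_map.1 hg
    exact hYD w hw
  have hDY : D ≤ Y := by rw [hD, closure_le]; exact hYD'
  have hY1 : ∀ {y : H}, y ∈ Y → ∀ g ∈ y :: dw.map (ev gen), g ∈ Y := by
    intro y hy g hg
    rcases List.mem_cons.1 hg with rfl | hg
    · exact hy
    · exact hYD' g hg
  have hT : ∀ {y : H} {z : ℕ}, y ∈ Y → Cd ρ y z → ¬ d.Tt.find z (fun _ _ _ => true) = true := by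
    intro y z hy hz h1
    obtain ⟨a, b, c, h2, -⟩ := Tr.find_sound h1
    obtain ⟨w, hw, h3⟩ := getK_spec (c2 _ _ _ _ h2)
    have h4 := Cd.evE hC hG w
    rw [Nat.eq_of_beq_eq_true h3] at h4
    exact hYT w hw (hinj (hz.eq h4) ▸ hy)
  have hchar : ((C.p : ℕ) : Mt C) = 0 := by
    rw [← Matrix.diagonal_natCast, ZMod.natCast_self]
    exact Matrix.diagonal_zero
  -- the translations
  have hV : ∀ v ∈ Y, v ∈ h.piH.ker → v ∈ D := by
    intro v hvY hv
    have hw : ∀ a ∈ closure {x | x ∈ aw.map (ev gen)}, ∀ cs : List H, (cs.getD 0 1 = a) →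
        evG (v :: cs) (0 :: 1 :: List.replicate (C.p - 1) 0) ∈ closure {x | x ∈ aw.map (ev gen)} := by
      intro a ha cs hcs
      have h1 : v ^ (C.p - 1) = v⁻¹ := by
        rw [eq_comm, inv_eq_iff_mul_eq_one, ← pow_succ', Nat.sub_add_cancel hp.le]
        exact h.pow_char hv hchar
      rw [evG_cons, evG_cons, evG_replicate, List.getD_cons_zero, List.getD_cons_succ, hcs, h1, ← mul_assoc]
      exact (mem_normalizer_iff.1 (hYA hvY) a).1 ha
    obtain ⟨X, Z, h1, h2, h3⟩ := enumC_sound hC h fB s1 s2 (Cd.one hC) fA c9 hv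
    rw [mul_one] at h1 h2
    have h4 : d.At.has Z = true := by
      refine (eA.has h2).2 ((sat_inj hinj).2 (hw _ ?_ _ rfl))
      have h5 := evG_mem (closure {x | x ∈ aw.map (ev gen)}) (LG := aw.map (ev gen)) (fun g hg => subset_closure hg) [0]
      rwa [evG_cons, evG_nil, mul_one] at h5
    rcases cond_or (cond_imp h3 h4) with h5 | h5
    · exact (sat_inj hinj).1 ((eD.has h1).1 h5)
    · exfalso
      rcases cond_or h5 with h6 | h6
      · obtain ⟨u, -, h7⟩ := anyL_spec h6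
        exact hT (evG_mem Y (hY1 hvY) u) (Cd.evW hC (List.Forall₂.cons h1 fD) u) h7
      · obtain ⟨a, ha, h7⟩ := anyL_spec h6
        obtain ⟨g, hg, h8⟩ := forall₂_right fA ha
        refine cond_not h7 ((eA.has (Cd.evW hC (List.Forall₂.cons h1 (List.Forall₂.cons h8 List.Forall₂.nil)) _)).2 ?_)
        exact (sat_inj hinj).2 (hw g (subset_closure hg) _ rfl)
  have hDV : ∀ {y : H} {z : ℕ}, y ∈ Y → y ∈ h.piH.ker → Cd ρ y z → memB z d.DV = true := by
    intro y z hy hv hz
    obtain ⟨k, a, b, c, h1, h2⟩ := eD.sup y (hV y hy hv)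
    rw [hz.code_eq h2 rfl]
    exact cond_imp (Tr.all_sound b19 k a b c h1) ((inV_iff hC h ef h2).2 hv)
  -- the targets
  have hTg : ∀ k ∈ d.tb, ∀ y ∈ Y, ¬ Cd h.piH y k := by
    intro k hk y hy hyk
    rw [c7] at fT
    rw [c8] at fTb hk
    obtain ⟨q, hq, rfl, t, ht, htb⟩ := forall₂_pair fT fTb hk
    have c6' := c6 q hq
    unfold tgtB at c6'
    simp only [fe] at c6'
    obtain ⟨h1, h2⟩ := cond_true_of c6'
    have hv : y * t⁻¹ ∈ h.piH.ker := by
      rw [MonoidHom.mem_ker, map_mul, hyk.eq htb, ← map_mul, mul_inv_cancel, map_one]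
    obtain ⟨X, Z, h3, h4, h5⟩ := enumC_sound hC h fB s1 s2 ht fD h2 hv
    rw [inv_mul_cancel_right] at h3 h4
    have h6 : memB Z d.DV = true := by
      refine hDV (evG_mem Y (hY1 hy) q.w) ?_ h4
      have h7 := Cd.evW hC (List.Forall₂.cons hyk fDb) q.w
      rw [Nat.eq_of_beq_eq_true h1] at h7
      rw [MonoidHom.mem_ker, h7.2, mat_one hC]
    obtain ⟨u, -, h7⟩ := anyL_spec (cond_imp h5 h6)
    have h8 := evG_mem Y (hY1 hy) u
    have h9 := Cd.evW hC (List.Forall₂.cons h3 fD) u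
    rcases cond_or h7 with h10 | h10
    · exact hT h8 h9 h10
    · obtain ⟨h11, h12⟩ := cond_true_of h10
      exact cond_not h12 (hDV h8 ((inV_iff hC h ef h9).1 h11) h9)
  -- the cosets
  obtain ⟨A, hA⟩ : ∃ A, A = closure {x | x ∈ aw.map (ev gen)} := ⟨_, rfl⟩
  let N : Subgroup H := normalizer ((sat h.piH A : Subgroup H) : Set H) ⊓ normalizer ((A ⊓ h.piH.ker : Subgroup H) : Set H)
  have hcu : ∀ {g u : H} {t ti z : ℕ}, Cd h.piH g t → Cd h.piH g⁻¹ ti → Cd ρ u z → u ∈ h.piH.ker →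
      Cd ρ (g * u * g⁻¹) (mulM C (mulM C t z) ti) := by
    intro g u t ti z h1 h2 h3 hu
    exact ⟨red_mul hC (red_mul hC h1.1 h3.1) h2.1, by
      rw [h.conj g hu, mat_mul hC (red_mul hC h1.1 h3.1) h2.1, mat_mul hC h1.1 h3.1, h1.2, h2.2, h3.2]⟩
  have hLN : closure {x | x ∈ d.lw.map (ev gen)} ≤ N := by
    rw [closure_le]
    intro g hg
    obtain ⟨l, hl, h1⟩ := forall₂_left fL hg
    have b22' := allL_spec b22 l hl
    unfold normB at b22'
    rw [fe] at b22'
    obtain ⟨h2, h3⟩ := cond_true_of b22'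
    obtain ⟨h4, h5⟩ := cond_true_of h3
    have h6 := h1.inv hC (h1.pow hC d.le).1 (Nat.eq_of_beq_eq_true h2)
    refine ⟨?_, mem_normalizer_fintype ?_⟩
    · rw [hA]
      refine mem_norm_sat fun s hs => ?_
      obtain ⟨a, ha, h7⟩ := forall₂_left fAb hs
      exact (eAb.has ((h1.mul hC h7).mul hC h6)).1 ((conjB_eq _ _ _ _ _).symm.trans (allL_spec h4 a ha))
    · rintro u ⟨hu1, hu2⟩
      refine ⟨?_, (MonoidHom.normal_ker _).conj_mem u hu2 g⟩
      rw [hA] at hu1 ⊢
      obtain ⟨k, a, b, c, h7, h8⟩ := eA.sup u hu1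
      exact (sat_inj hinj).1 ((eA.has (hcu h1 h6 h8 hu2)).1 ((conjB_eq _ _ _ _ _).symm.trans
        (cond_imp (Tr.all_sound h5 k a b c h7) ((inV_iff hC h ef h8).2 hu2))))
  have hex : ∀ g ∈ N, ∀ t ti, Cd h.piH g t → Cd h.piH g⁻¹ ti → ¬ exclB (mulM C) d t ti = true := by
    intro g hg t ti h1 h2 h3
    rcases cond_or h3 with h4 | h4
    · obtain ⟨a, ha, h5⟩ := anyL_spec h4
      obtain ⟨_, _, _, h6⟩ := Tr.mem_of_has (allL_spec b20 a ha)
      obtain ⟨x, hx, h7⟩ := eAb.sub h6
      refine cond_not h5 ((conjB_eq _ _ _ _ _).trans ((eAb.has ((h1.mul hC h7).mul hC h2)).2 ?_))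
      rw [← hA] at hx ⊢
      exact (mem_normalizer_iff.1 hg.1 x).1 ⟨x, hx, rfl⟩
    · obtain ⟨u, hu, h5⟩ := anyL_spec h4
      obtain ⟨h6, h7⟩ := cond_true_of (allL_spec b21 u hu)
      obtain ⟨_, _, _, h8⟩ := Tr.mem_of_has h6
      obtain ⟨x, hx, h9⟩ := eA.sub h8
      have h10 := (inV_iff hC h ef h9).1 h7
      refine cond_not h5 ((conjB_eq _ _ _ _ _).trans ((eA.has (hcu h1 h2 h9 h10)).2 ((sat_inj hinj).2 ?_)))
      rw [← hA] at hx ⊢
      exact ((mem_normalizer_iff.1 hg.2 x).1 ⟨hx, h10⟩).1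
  have hS : ∀ g : H, g ∈ sat h.piH (closure {x | x ∈ d.sw.map (ev gen)}) := by
    intro g
    have h1 : closure (Set.range gen) ≤ sat h.piH (closure {x | x ∈ d.sw.map (ev gen)}) := by
      rw [closure_le]
      rintro _ ⟨i, rfl⟩
      have h2 := Cd.evW hC fS (getW d.gw i)
      rw [Nat.eq_of_beq_eq_true (allBelow_spec b9 i i.2)] at h2
      exact ⟨_, evG_mem _ (fun g hg => subset_closure hg) _, (hGb i).eq h2⟩
    exact h1 (by rw [htop]; exact mem_top g)
  intro y hy
  have hyN : y ∈ N := by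
    refine ⟨?_, mem_normalizer_fintype ?_⟩
    · rw [hA]
      exact mem_norm_sat fun s hs => ⟨_, (mem_normalizer_iff.1 (hYA hy) s).1 (subset_closure hs), rfl⟩
    · rintro u ⟨hu1, hu2⟩
      refine ⟨?_, (MonoidHom.normal_ker _).conj_mem u hu2 y⟩
      rw [hA] at hu1 ⊢
      exact (mem_normalizer_iff.1 (hYA hy) u).1 hu1
  obtain ⟨l, hl, hyl⟩ := cos_sound hC fS hLN (fun z hz => by
    obtain ⟨a, b, c, h1, -⟩ := Tr.find_sound hz
    exact eL.sub h1) hex (cond_true_of c5).2 c4 (hS y) hyN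
  obtain ⟨k, a, b, c, h1, h2⟩ := eL.sup l hl
  have h3 := h2.congr hyl
  rcases des_sound hC fDb (fun k a b c hm => (cond_true_of (c3 k a b c hm)).2) hYD' h1 hy h3 with h4 | ⟨k', hk', y', hy', h4⟩
  · obtain ⟨x, hx, h5⟩ := (eDb.has h3).1 h4
    have h6 := hV (y * x⁻¹) (mul_mem hy (inv_mem (hDY hx))) (by
      rw [MonoidHom.mem_ker, map_mul, h5, ← map_mul, mul_inv_cancel, map_one])
    have h7 := mul_mem h6 hx
    rwa [inv_mul_cancel_right] at h7
  · exact absurd h4 (hTg k' hk' y' hy')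

end Cfsg.Agent.BX.Cov
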